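import Groth.Agent.KRIdeal.Koszul
import Mathlib.RingTheory.Unramified.Basic
import Mathlib.RingTheory.Etale.Basic
import Mathlib.RingTheory.Ideal.IdempotentFG

/-!
# Sections of smooth maps; LCI immersions; flat base change; cancelling smooth maps
-/

set_option autoImplicit false
set_option linter.style.haveILetI false

universe u

open CategoryTheory CategoryTheory.Limits AlgebraicGeometry
open scoped TensorProduct

namespace Groth.Agent.KRIdeal

open KoszulLib (Ex ex_iff)

/-- The kernel of a retraction of a standard smooth algebra is Koszul regular. -/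
theorem isKRI_ker_of_section {A B : Type u} [CommRing A] [CommRing B] [Algebra A B]
    (h : (algebraMap A B).IsStandardSmooth) (σ : B →ₐ[A] A) :
    LCI.IsKoszulRegularIdeal (RingHom.ker σ.toRingHom) := by
  classical
  obtain ⟨n, g, hg, het⟩ := h.exists_etale_mvPolynomial
  letI := g.toAlgebra
  haveI : IsScalarTower A (MvPolynomial (Fin n) A) B := IsScalarTower.of_algebraMap_eq fun x => (RingHom.congr_fun hg x).symm
  haveI : Algebra.Etale (MvPolynomial (Fin n) A) B := het
  haveI : Algebra.FinitePresentation A B := Algebra.FinitePresentation.trans A (MvPolynomial (Fin n) A) B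
  have hσs : Function.Surjective σ := fun a => ⟨algebraMap A B a, σ.commutes a⟩
  let a : Fin n → A := fun i => σ (g (MvPolynomial.X i))
  let t : Fin n → MvPolynomial (Fin n) A := fun i => MvPolynomial.X i - MvPolynomial.C (a i)
  have hσg : σ.toRingHom.comp g = (MvPolynomial.aeval (R := A) a).toRingHom :=
    MvPolynomial.ringHom_ext (fun r => by
      show σ (g (MvPolynomial.C r)) = _
      rw [show g (MvPolynomial.C r) = algebraMap A B r from RingHom.congr_fun hg r]
      simp) (fun i => by simp [a])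
  let K : Ideal B := RingHom.ker σ.toRingHom
  let J : Ideal B := Ideal.span (Set.range (g ∘ t))
  have hJK : J ≤ K := by
    rw [Ideal.span_le]
    rintro _ ⟨i, rfl⟩
    show σ.toRingHom.comp g (t i) = 0
    rw [hσg]; simp [t]
  have hJ : ∀ f : MvPolynomial (Fin n) A, g f - algebraMap A B (MvPolynomial.aeval a f) ∈ J := by
    intro f
    have hf : f - MvPolynomial.C (MvPolynomial.aeval a f) ∈ RingHom.ker (MvPolynomial.aeval (R := A) a).toRingHom := by
      simp [RingHom.mem_ker]
    rw [ker_aeval_translated a] at hf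
    have h1 := Ideal.mem_map_of_mem g hf
    rw [map_sub, show g (MvPolynomial.C (MvPolynomial.aeval a f)) = algebraMap A B (MvPolynomial.aeval a f) from
      RingHom.congr_fun hg _, Ideal.map_span, ← Set.range_comp] at h1
    exact h1
  -- the only derivation vanishing on the coordinates is zero
  have hK2 : K ≤ K ^ 2 ⊔ J := by
    let N : Ideal B := K ^ 2 ⊔ J
    have hsub : ∀ b : B, b - algebraMap A B (σ b) ∈ K := fun b => by
      show σ (b - algebraMap A B (σ b)) = 0
      rw [map_sub, σ.commutes, Algebra.algebraMap_self, RingHom.id_apply, sub_self]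
    let D : Derivation (MvPolynomial (Fin n) A) B (B ⧸ N) :=
      Derivation.mk'
        { toFun := fun b => Ideal.Quotient.mk N (b - algebraMap A B (σ b))
          map_add' := fun x y => by
            rw [← map_add (Ideal.Quotient.mk N)]
            congr 1
            rw [map_add σ, map_add (algebraMap A B)]
            ring
          map_smul' := fun f b => by
            have hσf : σ (f • b) = MvPolynomial.aeval a f * σ b := by
              rw [Algebra.smul_def, map_mul]
              exact congrArg (· * σ b) (RingHom.congr_fun hσg f)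
            rw [RingHom.id_apply, Algebra.smul_def f (Ideal.Quotient.mk N _), ← Ideal.Quotient.mk_algebraMap, ← map_mul,
              hσf, Algebra.smul_def f b, map_mul, Ideal.Quotient.mk_eq_mk_iff_sub_mem]
            refine Submodule.mem_sup_right ?_
            have := J.mul_mem_right (algebraMap A B (σ b)) (hJ f)
            convert this using 1
            show g f * b - algebraMap A B (MvPolynomial.aeval a f) * algebraMap A B (σ b) -
              g f * (b - algebraMap A B (σ b)) = _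
            ring }
        fun x y => by
          show Ideal.Quotient.mk N (x * y - algebraMap A B (σ (x * y))) =
            x • Ideal.Quotient.mk N (y - algebraMap A B (σ y)) + y • Ideal.Quotient.mk N (x - algebraMap A B (σ x))
          rw [Algebra.smul_def, Algebra.smul_def, Ideal.Quotient.algebraMap_eq, ← map_mul, ← map_mul, ← map_add,
            Ideal.Quotient.mk_eq_mk_iff_sub_mem]
          refine Submodule.mem_sup_left ?_
          rw [pow_two]
          have := neg_mem (Ideal.mul_mem_mul (hsub x) (hsub y))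
          convert this using 1
          rw [map_mul σ, map_mul (algebraMap A B)]
          ring
    have hD : D = 0 := by
      let e := KaehlerDifferential.linearMapEquivDerivation (MvPolynomial (Fin n) A) B (M := B ⧸ N)
      obtain ⟨φ, hφ⟩ := e.surjective D
      rw [← hφ, show φ = 0 from LinearMap.ext fun x => by rw [Subsingleton.elim x 0, map_zero]; rfl, map_zero]
    intro b hb
    have hb0 : D b = 0 := by rw [hD]; rfl
    have h1 : Ideal.Quotient.mk N (b - algebraMap A B (σ b)) = 0 := hb0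
    rw [show σ b = 0 from hb, map_zero, sub_zero, Ideal.Quotient.eq_zero_iff_mem] at h1
    exact h1
  have hKfg : K.FG := Algebra.FinitePresentation.ker_fG_of_surjective σ hσs
  let q := Ideal.Quotient.mk J
  have hid : IsIdempotentElem (K.map q) := by
    refine le_antisymm Ideal.mul_le_right ?_
    rw [← pow_two, ← Ideal.map_pow]
    refine (Ideal.map_mono hK2).trans ?_
    rw [Ideal.map_sup, Ideal.map_quotient_self, sup_bot_eq]
  obtain ⟨e, he, heq⟩ := (Ideal.isIdempotentElem_iff_of_fg _ (hKfg.map q)).1 hid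
  obtain ⟨e, rfl⟩ := Ideal.Quotient.mk_surjective e
  have heK : e ∈ K := by
    have h1 : q e ∈ K.map q := heq.symm ▸ Ideal.mem_span_singleton_self (q e)
    have h2 : e ∈ (K.map q).comap q := h1
    rw [Ideal.comap_map_of_surjective' q Ideal.Quotient.mk_surjective, Ideal.mk_ker, sup_eq_left.2 hJK] at h2
    exact h2
  have hann : ∀ x ∈ K, (1 - e) * x ∈ J := fun x hx => by
    have h1 : q x ∈ Ideal.span {q e} := (le_of_eq heq) (Ideal.mem_map_of_mem q hx)
    obtain ⟨c, hc⟩ := Ideal.mem_span_singleton'.1 h1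
    refine Ideal.Quotient.eq_zero_iff_mem.1 ?_
    show q ((1 - e) * x) = 0
    rw [map_mul, map_sub, map_one, ← hc, show (1 - q e) * (c * q e) = c * (q e - q e * q e) by ring, he.eq,
      sub_self, mul_zero]
  refine (isKRI_iff _).2 fun Q hQ hle => ?_
  have hQe : 1 - e ∉ Q := fun hc => hQ.one_notMem (by simpa using add_mem hc (hle heK))
  haveI : Module.Flat (MvPolynomial (Fin n) A) B := Algebra.Smooth.flat (MvPolynomial (Fin n) A) B
  have hex : Ex (List.ofFn (g ∘ t)) := by
    rw [← List.map_ofFn]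
    exact KoszulLib.Ex.baseChange (ex_translated n a)
  haveI : Module.Flat B (Localization.Away (1 - e)) := IsLocalization.flat _ (Submonoid.powers (1 - e))
  refine at_of_away hQe (Localization.Away (1 - e)) (algebraMap B _ ∘ (g ∘ t)) ?_ ?_
  · rw [← List.map_ofFn]
    exact KoszulLib.Ex.baseChange hex
  · rw [Set.range_comp _ (g ∘ t), ← Ideal.map_span]
    refine le_antisymm (Ideal.map_le_iff_le_comap.2 fun x hx => ?_) (Ideal.map_mono hJK)
    rw [Ideal.mem_comap, ← Ideal.unit_mul_mem_iff_mem _ (IsLocalization.Away.algebraMap_isUnit (1 - e)), ← map_mul]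
    exact Ideal.mem_map_of_mem _ (hann x hx)

theorem isKRI_of_ringLCI_surjective {A B : Type u} [CommRing A] [CommRing B] {f : A →+* B}
    (hf : Function.Surjective f) (h : RingLCI f) : LCI.IsKoszulRegularIdeal (RingHom.ker f) := by
  algebraize [f]
  let e := MvPolynomial.isEmptyAlgEquiv A (Fin 0)
  let g : MvPolynomial (Fin 0) A →ₐ[A] B := (Algebra.ofId A B).comp e.toAlgHom
  exact (isKRI_ker_equiv_iff e.toRingEquiv f g.toRingHom rfl).1 (isKRI_ker_of_isLCI h g (hf.comp e.surjective))

theorem mem_basicOpen_iff {X : Scheme.{u}} {U : X.Opens} (hU : IsAffineOpen U) {x : X} (hx : x ∈ U) (f : Γ(X, U)) :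
    x ∈ X.basicOpen f ↔ f ∉ (hU.primeIdealOf ⟨x, hx⟩).asIdeal := by
  have h := SetLike.ext_iff.1 (hU.fromSpec_preimage_basicOpen f) (hU.primeIdealOf ⟨x, hx⟩)
  change hU.fromSpec (hU.primeIdealOf ⟨x, hx⟩) ∈ X.basicOpen f ↔ _ at h
  rw [hU.fromSpec_primeIdealOf ⟨x, hx⟩] at h
  exact h

/-- An LCI immersion is Koszul regular. -/
theorem isRegularImmersion_of_schLCI {Z X : Scheme.{u}} (i : Z ⟶ X) [IsImmersion i] (h : SchLCI i) :
    RegImm.IsRegularImmersion .koszul i := by
  refine ⟨inferInstance, fun z => ?_⟩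
  obtain ⟨U, (hU : IsAffineOpen U), hz, hUle⟩ := exists_isAffineOpen_mem_and_subset (U := i.coborderRange) (x := i z)
    (subset_coborder ⟨z, rfl⟩)
  haveI : IsClosedImmersion (i ∣_ U) := by
    refine IsClosedImmersion.of_isPreimmersion _ ?_
    have hr : Set.range (i ∣_ U) = Subtype.val ⁻¹' Set.range i := by
      ext y
      constructor
      · rintro ⟨w, rfl⟩
        exact ⟨w.1, (morphismRestrict_base_coe i U w).symm⟩
      · rintro ⟨w, hw⟩
        exact ⟨⟨w, show i w ∈ U by rw [hw]; exact y.2⟩, Subtype.ext ((morphismRestrict_base_coe i U _).trans hw)⟩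
    have hcl : (Subtype.val ⁻¹' Set.range i : Set U) = Subtype.val ⁻¹' closure (Set.range i) := by
      ext y
      refine ⟨fun hy => subset_closure hy, fun hy => ?_⟩
      have := coborder_inter_closure (s := Set.range i)
      exact this.le ⟨hUle y.2, hy⟩
    rw [hr]
    exact hcl ▸ isClosed_closure.preimage continuous_subtype_val
  obtain ⟨hA, hs⟩ := PerfMor.surjective_app_of_restrict i hU
  have hk : LCI.IsKoszulRegularIdeal (RingHom.ker (i.app U).hom) := by
    refine isKRI_of_ringLCI_surjective hs ?_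
    rw [Scheme.Hom.app_eq_appLE]
    exact (schLCI_iff i).1 h (i ⁻¹ᵁ U) U hA hU le_rfl
  let p := hU.primeIdealOf ⟨i z, hz⟩
  have hle : RingHom.ker (i.app U).hom ≤ p.asIdeal := fun x hx => by
    by_contra hxp
    have hm : i z ∈ X.basicOpen x := (mem_basicOpen_iff hU hz x).2 hxp
    have : z ∈ Z.basicOpen ((i.app U).hom x) := by
      rw [← Scheme.preimage_basicOpen]; exact hm
    rw [RingHom.mem_ker.1 hx, Scheme.basicOpen_zero] at this
    exact this
  obtain ⟨g, hg, r, f, hd⟩ := (isKRI_iff _).1 hk p.asIdeal hle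
  let D := X.basicOpen g
  have hD : IsAffineOpen D := hU.basicOpen g
  obtain ⟨hcl, hker⟩ := RegSeq.restrict_baseChange (g := 𝟙 X) (g' := 𝟙 Z)
    (IsPullback.id_horiz i) hU hD (X.basicOpen_le g)
  refine ⟨⟨D, hD⟩, (mem_basicOpen_iff hU hz g).2 hg, hcl, ?_⟩
  letI : Algebra Γ(X, U) Γ(X, D) := ((𝟙 X : X ⟶ X).appLE U D (X.basicOpen_le g)).hom.toAlgebra
  haveI : Module.Flat Γ(X, U) Γ(X, D) := Scheme.Hom.flat_appLE (𝟙 X) hU hD (X.basicOpen_le g)
  obtain ⟨h1, h2⟩ := hd.transfer Γ(X, D) (by
    show IsUnit ((X.presheaf.map (homOfLE (X.basicOpen_le g)).op).hom g)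
    exact RingedSpace.isUnit_res_basicOpen X.toRingedSpace g)
  exact ⟨List.ofFn (algebraMap Γ(X, U) Γ(X, D) ∘ f), (ex_iff _).1 h1, by rw [hker, ofList_ofFn, ← h2]; rfl⟩

/-- Flat base change. -/
theorem schLCI_baseChange {X Y X' Y' : Scheme.{u}} {f : X ⟶ Y} {g : Y' ⟶ Y} [Flat g] {f' : X' ⟶ Y'} {g' : X' ⟶ X}
    (hsq : IsPullback g' f' f g) (h : SchLCI f) : SchLCI f' := by
  refine (HasRingHomProperty.iff_exists_appLE (P := @SchLCI.{u})
    (fun _ _ _ _ _ _ _ r _ _ hg => ringLCI_comp (ringLCI_away r) hg)).2 fun x' => ?_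
  obtain ⟨US, hUS, hxS, -⟩ := exists_isAffineOpen_mem_and_subset (U := (⊤ : Y.Opens)) (x := f (g' x')) trivial
  obtain ⟨UX, hUX, hxX, hUSX⟩ := exists_isAffineOpen_mem_and_subset (U := f ⁻¹ᵁ US) (x := g' x') hxS
  obtain ⟨UT, hUT, hxT, hUST⟩ := exists_isAffineOpen_mem_and_subset (U := g ⁻¹ᵁ US) (x := f' x') (by
    show g (f' x') ∈ US
    rw [← Scheme.Hom.comp_apply, ← hsq.w, Scheme.Hom.comp_apply]; exact hxS)
  let UY := g' ⁻¹ᵁ UX ⊓ f' ⁻¹ᵁ UT
  have hUY : IsAffineOpen UY := by
    haveI : IsAffine _ := hUS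
    haveI : IsAffine _ := hUT
    haveI : IsAffine _ := hUX
    exact .of_isIso (Scheme.Hom.isPullback_resLE hsq hUST hUSX rfl).isoPullback.hom
  have hP := (isIso_pushoutSection_iff hsq hUST hUSX rfl).1
    (isIso_pushoutSection_of_isAffineOpen hsq hUST hUSX rfl hUS hUT hUX)
  refine ⟨⟨UT, hUT⟩, ⟨UY, hUY⟩, ⟨hxX, hxT⟩, inf_le_right, ?_⟩
  let a := f.appLE US UX hUSX
  let b := g.appLE US UT hUST
  let c := f'.appLE UT UY inf_le_right
  let d := g'.appLE UX UY inf_le_left
  letI := a.hom.toAlgebra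
  letI := b.hom.toAlgebra
  letI := c.hom.toAlgebra
  letI := d.hom.toAlgebra
  letI : Algebra Γ(Y, US) Γ(X', UY) := (a ≫ d).hom.toAlgebra
  haveI : IsScalarTower Γ(Y, US) Γ(X, UX) Γ(X', UY) := IsScalarTower.of_algebraMap_eq fun _ => rfl
  haveI : IsScalarTower Γ(Y, US) Γ(Y', UT) Γ(X', UY) := IsScalarTower.of_algebraMap_eq fun x => congr($(hP.w).hom x)
  haveI : Module.Flat Γ(Y, US) Γ(Y', UT) := g.flat_appLE hUS hUT hUST
  have hpo : Algebra.IsPushout Γ(Y, US) Γ(Y', UT) Γ(X, UX) Γ(X', UY) :=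
    CommRingCat.isPushout_iff_isPushout.1 hP.flip
  have hA : LCI.IsLCI Γ(Y, US) Γ(X, UX) := (schLCI_iff f).1 h UX US hUX hUS hUSX
  exact isLCI_algEquiv hpo.equiv (isLCI_baseChange _ _ _ hA)

/-- A section of a smooth morphism is LCI. -/
theorem schLCI_of_section {X P : Scheme.{u}} (q : P ⟶ X) [Smooth q] (s : X ⟶ P) (hs : s ≫ q = 𝟙 X) : SchLCI s := by
  refine (HasRingHomProperty.iff_exists_appLE (P := @SchLCI.{u})
    (fun _ _ _ _ _ _ _ r _ _ hg => ringLCI_comp (ringLCI_away r) hg)).2 fun x => ?_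
  obtain ⟨W, hW, U, hU, hxU, e, hstd⟩ := Smooth.exists_isStandardSmooth q (s x)
  have hqs : ∀ y, q (s y) = y := fun y => by rw [← Scheme.Hom.comp_apply, hs]; rfl
  have hxW : x ∈ W := by have := e hxU; rwa [Scheme.Hom.mem_preimage, hqs] at this
  obtain ⟨a, hale, hxa⟩ := hW.exists_basicOpen_le (V := s ⁻¹ᵁ U) ⟨x, hxU⟩ hxW
  let W₁ := X.basicOpen a
  let U₁ := P.basicOpen (q.appLE W U e a)
  have hU₁ : IsAffineOpen U₁ := hU.basicOpen _
  have hW₁ : IsAffineOpen W₁ := hW.basicOpen a
  have hU₁eq : U₁ = U ⊓ q ⁻¹ᵁ W₁ := by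
    simp only [U₁, W₁, Scheme.Hom.appLE, CommRingCat.hom_comp, RingHom.comp_apply, Scheme.preimage_basicOpen]
    exact P.basicOpen_res _ _
  have e₁ : U₁ ≤ q ⁻¹ᵁ W₁ := hU₁eq ▸ inf_le_right
  have e₂ : W₁ ≤ s ⁻¹ᵁ U₁ := fun y hy => by
    rw [hU₁eq, Scheme.Hom.mem_preimage]
    exact ⟨hale hy, show q (s y) ∈ W₁ by rw [hqs]; exact hy⟩
  refine ⟨⟨U₁, hU₁⟩, ⟨W₁, hW₁⟩, hxa, e₂, ?_⟩
  have hstd₁ : (q.appLE W₁ U₁ e₁).hom.IsStandardSmooth := by
    letI := hW.isLocalization_basicOpen a
    letI := hU.isLocalization_basicOpen (q.appLE W U e a)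
    rw [IsAffineOpen.appLE_eq_away_map q hW hU e a]
    exact RingHom.isStandardSmooth_localizationPreserves.away _ a _ _ hstd
  have hcomp : q.appLE W₁ U₁ e₁ ≫ s.appLE U₁ W₁ e₂ = 𝟙 _ := by
    rw [Scheme.Hom.appLE_comp_appLE]
    simp only [hs]
    rw [Scheme.Hom.appLE, Scheme.Hom.id_app]
    exact (Category.id_comp _).trans (X.presheaf.map_id _)
  letI := (q.appLE W₁ U₁ e₁).hom.toAlgebra
  let σ : Γ(P, U₁) →ₐ[Γ(X, W₁)] Γ(X, W₁) :=
    { (s.appLE U₁ W₁ e₂).hom with commutes' := fun r => congr($(hcomp).hom r) }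
  refine ringLCI_of_surjective (fun r => ⟨_, σ.commutes r⟩) (isKRI_ker_of_section hstd₁ σ)

/-- Cancelling a smooth morphism. -/
theorem schLCI_of_comp {X Y Z : Scheme.{u}} (i : X ⟶ Z) (p : Z ⟶ Y) [Smooth p] (h : SchLCI (i ≫ p)) : SchLCI i := by
  have hsnd : SchLCI (pullback.snd (i ≫ p) p) := schLCI_baseChange (IsPullback.of_hasPullback (i ≫ p) p) h
  let s : X ⟶ pullback (i ≫ p) p := pullback.lift (𝟙 X) i (Category.id_comp _)
  have h1 : SchLCI s := schLCI_of_section (pullback.fst (i ≫ p) p) s (pullback.lift_fst _ _ _)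
  have := MorphismProperty.comp_mem _ _ _ h1 hsnd
  rwa [pullback.lift_snd] at this

end Groth.Agent.KRIdeal
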