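import Groth.Agent.KRIdeal.Smooth
import Groth.Agent.RegSeq.Comp
import Groth.Prelude.Def_RegImm

/-!
# Factorisation form of local complete intersection morphisms
-/

set_option autoImplicit false
set_option linter.style.haveILetI false

universe u

open CategoryTheory CategoryTheory.Limits AlgebraicGeometry

namespace Groth.Agent.KRIdeal

open KoszulLib (Ex ex_iff)

theorem ringLCI_of_surjective {A B : Type u} [CommRing A] [CommRing B] {f : A →+* B} (hf : Function.Surjective f)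
    (h : LCI.IsKoszulRegularIdeal (RingHom.ker f)) : RingLCI f := by
  algebraize [f]
  let e := MvPolynomial.isEmptyAlgEquiv A (Fin 0)
  let g : MvPolynomial (Fin 0) A →ₐ[A] B := (Algebra.ofId A B).comp e.toAlgHom
  refine ⟨Algebra.FiniteType.of_surjective (Algebra.ofId A B) hf, 0, g, hf.comp e.surjective, ?_⟩
  exact (isKRI_ker_equiv_iff e.toRingEquiv f g.toRingHom rfl).2 h

theorem schLCI_of_regularImmersion {Z X : Scheme.{u}} (i : Z ⟶ X) (hi : RegImm.IsRegularImmersion .koszul i) :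
    SchLCI i := by
  refine (HasRingHomProperty.iff_exists_appLE (P := @SchLCI.{u})
    (fun _ _ _ _ _ _ _ r _ _ hg => ringLCI_comp (ringLCI_away r) hg)).2 fun z => ?_
  obtain ⟨V, hz, hcl, rs, hrs, hker⟩ := hi.2 z
  obtain ⟨hA, hs⟩ := PerfMor.surjective_app_of_restrict i V.2
  refine ⟨V, ⟨i ⁻¹ᵁ V.1, hA⟩, hz, le_rfl, ?_⟩
  rw [← Scheme.Hom.app_eq_appLE]
  refine ringLCI_of_surjective hs ?_
  rw [hker]
  exact isKRI_of_ex ((ex_iff rs).2 hrs)

theorem schLCI_of_isKoszulAt {X Y : Scheme.{u}} (f : X ⟶ Y) (hf : ∀ x : X, Synt.IsKoszulAt f x) : SchLCI f := by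
  choose U P i π hx hft hi hπ hfac using hf
  rw [IsZariskiLocalAtSource.iff_of_iSup_eq_top (P := @SchLCI.{u}) (U := U)
    (eq_top_iff.2 fun x _ => TopologicalSpace.Opens.mem_iSup.2 ⟨x, hx x⟩)]
  intro x
  rw [← hfac x]
  haveI := hπ x
  exact MorphismProperty.comp_mem _ _ _ (schLCI_of_regularImmersion _ (hi x)) (schLCI_of_smooth (π x))

theorem isRegularImmersion_specMap {P B : CommRingCat.{u}} (φ : P ⟶ B) (hφ : Function.Surjective φ.hom)
    (h : LCI.IsKoszulRegularIdeal (RingHom.ker φ.hom)) : RegImm.IsRegularImmersion .koszul (Spec.map φ) := by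
  haveI : IsClosedImmersion (Spec.map φ) := IsClosedImmersion.spec_of_surjective φ hφ
  refine ⟨inferInstance, fun z => ?_⟩
  have hle : RingHom.ker φ.hom ≤ (z.asIdeal).comap φ.hom := fun x hx => by
    rw [Ideal.mem_comap, RingHom.mem_ker.1 hx]; exact zero_mem _
  obtain ⟨g, hg, r, f, hd⟩ := (isKRI_iff _).1 h _ hle
  let D : (Spec P).Opens := PrimeSpectrum.basicOpen g
  have hD : IsAffineOpen D := IsAffineOpen.Spec_basicOpen g
  haveI : IsClosedImmersion (Spec.map φ ∣_ (⊤ : (Spec P).Opens)) :=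
    IsZariskiLocalAtTarget.restrict (P := @IsClosedImmersion) (f := Spec.map φ) inferInstance ⊤
  obtain ⟨hcl, hker⟩ := RegSeq.restrict_baseChange (g := 𝟙 (Spec P)) (g' := 𝟙 (Spec B))
    (IsPullback.id_horiz (Spec.map φ)) (isAffineOpen_top (Spec P)) hD le_top
  refine ⟨⟨D, hD⟩, hg, hcl, ?_⟩
  haveI : Module.Flat P Γ(Spec P, D) := IsLocalization.flat _ (Submonoid.powers g)
  obtain ⟨h1, h2⟩ := hd.transfer Γ(Spec P, D) (IsLocalization.Away.algebraMap_isUnit g)
  refine ⟨List.ofFn (algebraMap P Γ(Spec P, D) ∘ f), (ex_iff _).1 h1, ?_⟩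
  rw [hker, ofList_ofFn, ← h2]
  have hk : RingHom.ker ((Spec.map φ).app ⊤).hom = (RingHom.ker φ.hom).map (Scheme.ΓSpecIso P).inv.hom := by
    have hnat := Scheme.ΓSpecIso_inv_naturality φ
    refine le_antisymm (fun x hx => ?_) (Ideal.map_le_iff_le_comap.2 fun a ha => ?_)
    · obtain ⟨a, rfl⟩ := (ConcreteCategory.bijective_of_isIso (Scheme.ΓSpecIso P).inv).2 x
      refine Ideal.mem_map_of_mem _ ?_
      have h3 := congr($(hnat).hom a)
      refine RingHom.mem_ker.2 ((ConcreteCategory.bijective_of_isIso (Scheme.ΓSpecIso B).inv).1 ?_)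
      rw [map_zero]
      exact h3.trans (RingHom.mem_ker.1 hx)
    · rw [Ideal.mem_comap, RingHom.mem_ker]
      have h3 := congr($(hnat).hom a)
      refine h3.symm.trans ?_
      show (Scheme.ΓSpecIso B).inv.hom (φ.hom a) = 0
      rw [RingHom.mem_ker.1 ha, map_zero]
  rw [hk, Ideal.map_map]
  congr 1

theorem isKoszulAt_of_schLCI {X Y : Scheme.{u}} (f : X ⟶ Y) (hf : SchLCI f) (x : X) : Synt.IsKoszulAt f x := by
  obtain ⟨W, hW, hfx, -⟩ := exists_isAffineOpen_mem_and_subset (U := (⊤ : Y.Opens)) (x := f x) trivial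
  obtain ⟨V, hV, hxV, hVW⟩ := exists_isAffineOpen_mem_and_subset (U := f ⁻¹ᵁ W) (x := x) hfx
  let φ := f.appLE W V hVW
  letI := φ.hom.toAlgebra
  have hlci : LCI.IsLCI Γ(Y, W) Γ(X, V) := (schLCI_iff f).1 hf V W hV hW hVW
  obtain ⟨n, v, hv, hk⟩ := exists_pker hlci
  let P : CommRingCat.{u} := CommRingCat.of (MvPolynomial (Fin n) Γ(Y, W))
  let C : Γ(Y, W) ⟶ P := CommRingCat.ofHom MvPolynomial.C
  let α : P ⟶ Γ(X, V) := CommRingCat.ofHom (MvPolynomial.aeval (R := Γ(Y, W)) v).toRingHom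
  haveI hα : IsClosedImmersion (Spec.map α) := IsClosedImmersion.spec_of_surjective α hv
  haveI : Smooth (Spec.map C) := by
    refine (HasRingHomProperty.Spec_iff (P := @Smooth)).2 ?_
    show (algebraMap Γ(Y, W) (MvPolynomial (Fin n) Γ(Y, W))).Smooth
    rw [RingHom.smooth_algebraMap]
    exact { }
  haveI : LocallyOfFiniteType (V.ι ≫ f) := by
    haveI : LocallyOfFiniteType f :=
      HasRingHomProperty.iff_appLE.2 fun U V e => ((schLCI_iff f).1 hf V.1 U.1 V.2 U.2 e).1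
    infer_instance
  refine ⟨V, Spec P, hV.isoSpec.hom ≫ Spec.map α, Spec.map C ≫ hW.fromSpec, hxV, inferInstance,
    RegSeq.isRegularImmersion_iso_comp _ (isRegularImmersion_specMap α hv hk), inferInstance, ?_⟩
  have hCα : C ≫ α = φ := CommRingCat.hom_ext (RingHom.ext fun r => MvPolynomial.aeval_C v r)
  rw [Category.assoc, ← Spec.map_comp_assoc, hCα]
  show hV.isoSpec.hom ≫ Spec.map (f.appLE W V hVW) ≫ hW.fromSpec = V.ι ≫ f
  rw [IsAffineOpen.SpecMap_appLE_fromSpec f hW hV hVW, IsAffineOpen.isoSpec_hom_fromSpec_assoc]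

end Groth.Agent.KRIdeal
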