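import Groth.Agent.KRIdeal.Descent
import Mathlib.AlgebraicGeometry.Morphisms.Descent
import Mathlib.AlgebraicGeometry.Morphisms.FlatDescent
import Mathlib.AlgebraicGeometry.Morphisms.LocalIso

/-!
# The LCI property of ring maps is local and codescends; the morphism property
-/

set_option autoImplicit false
set_option linter.style.haveILetI false

universe u

open CategoryTheory CategoryTheory.Limits AlgebraicGeometry
open scoped TensorProduct

namespace Groth.Agent.KRIdeal

/-- The ring map is a local complete intersection. -/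
def RingLCI {R S : Type u} [CommRing R] [CommRing S] (f : R →+* S) : Prop :=
  letI := f.toAlgebra
  LCI.IsLCI R S

theorem ringLCI_algebraMap {R S : Type u} [CommRing R] [CommRing S] [Algebra R S] :
    RingLCI (algebraMap R S) ↔ LCI.IsLCI R S := by
  unfold RingLCI
  rw [show (algebraMap R S).toAlgebra = ‹Algebra R S› from Algebra.algebra_ext _ _ fun _ => rfl]

/-- Cancelling a localisation of the base. -/
theorem isLCI_of_away (R R' S : Type u) [CommRing R] [CommRing R'] [CommRing S] [Algebra R R'] [Algebra R' S]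
    [Algebra R S] [IsScalarTower R R' S] (r : R) [IsLocalization.Away r R'] (h : LCI.IsLCI R S) :
    LCI.IsLCI R' S := by
  haveI : Module.Flat R R' := IsLocalization.flat _ (Submonoid.powers r)
  let φ : R' ⊗[R] S →ₐ[R'] S := Algebra.TensorProduct.lift (Algebra.ofId R' S) (AlgHom.id R S) fun _ _ => Commute.all _ _
  have hφ : Function.Bijective φ := by
    have e : ⇑φ = ⇑(IsLocalization.moduleLid (Submonoid.powers r) R' S) := funext fun z =>
      TensorProduct.induction_on (motive := fun z => φ z = IsLocalization.moduleLid (Submonoid.powers r) R' S z) z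
        (by simp) (fun a b => by
          simp only [φ, Algebra.TensorProduct.lift_tmul, Algebra.ofId_apply, AlgHom.id_apply]
          rw [← Algebra.smul_def]
          rfl)
        (fun x y hx hy => by rw [map_add, map_add, hx, hy])
    rw [e]
    exact LinearEquiv.bijective _
  exact isLCI_algEquiv (AlgEquiv.ofBijective φ hφ) (isLCI_baseChange R S R' h)

theorem ringLCI_comp {R S T : Type u} [CommRing R] [CommRing S] [CommRing T] {f : R →+* S} {g : S →+* T}
    (hf : RingLCI f) (hg : RingLCI g) : RingLCI (g.comp f) := by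
  algebraize [f, g, g.comp f]
  exact isLCI_trans R S T hf hg

theorem stableUnderComposition : RingHom.StableUnderComposition RingLCI :=
  fun _ _ _ _ _ _ _ _ hf hg => ringLCI_comp hf hg

theorem ringLCI_away {R S : Type u} [CommRing R] [CommRing S] [Algebra R S] (r : R) [IsLocalization.Away r S] :
    RingLCI (algebraMap R S) :=
  ringLCI_algebraMap.2 (isLCI_away R r S)

theorem respectsIso : RingHom.RespectsIso RingLCI :=
  stableUnderComposition.respectsIso fun e =>
    RingHom.HoldsForLocalizationAway.of_bijective (P := RingLCI) (f := e.toRingHom)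
      (fun _ _ _ _ _ r _ => ringLCI_away r) e.bijective

theorem ofLocalizationSpanTarget : RingHom.OfLocalizationSpanTarget RingLCI := by
  intro R S _ _ f s hs h
  algebraize [f]
  refine isLCI_of_span R S s hs fun b hb => ?_
  have := h ⟨b, hb⟩
  rw [show (algebraMap S (Localization.Away b)).comp f = algebraMap R (Localization.Away b) from
    (IsScalarTower.algebraMap_eq R S (Localization.Away b)).symm] at this
  exact ringLCI_algebraMap.1 this

theorem propertyIsLocal : RingHom.PropertyIsLocal RingLCI where
  localizationAwayPreserves := by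
    introv R hf
    let g : R' →+* S' := IsLocalization.Away.map R' S' f r
    have hcomp : g.comp (algebraMap R R') = (algebraMap S S').comp f :=
      IsLocalization.map_comp _
    have h1 : RingLCI ((algebraMap S S').comp f) := ringLCI_comp hf (ringLCI_away (f r))
    rw [← hcomp] at h1
    algebraize [g, g.comp (algebraMap R R')]
    exact isLCI_of_away R R' S' r h1
  ofLocalizationSpanTarget := ofLocalizationSpanTarget
  ofLocalizationSpan := by
    intro R S _ _ f s hs h
    refine ofLocalizationSpanTarget f (f '' s) ?_ ?_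
    · rw [← Ideal.map_span, hs, Ideal.map_top]
    · rintro ⟨_, r, hr, rfl⟩
      have h1 := ringLCI_comp (ringLCI_away (S := Localization.Away r) r) (h ⟨r, hr⟩)
      rwa [show ((Localization.awayMap f r).comp (algebraMap R (Localization.Away r))) =
        (algebraMap S (Localization.Away (f r))).comp f from IsLocalization.map_comp _] at h1
  StableUnderCompositionWithLocalizationAwayTarget := fun _ _ _ _ _ _ _ s _ _ hf =>
    ringLCI_comp hf (ringLCI_away s)

theorem codescendsAlong : RingHom.CodescendsAlong RingLCI RingHom.FaithfullyFlat := by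
  refine .mk _ respectsIso fun R S T _ _ _ _ _ hS hLCI => ?_
  rw [RingHom.faithfullyFlat_algebraMap_iff] at hS
  rw [ringLCI_algebraMap] at hLCI ⊢
  have hft : Algebra.FiniteType R T := RingHom.finiteType_algebraMap.1
    (RingHom.FiniteType.codescendsAlong_faithfullyFlat.algebraMap_tensorProduct (R := R) (S := S) (T := T) _
      (RingHom.faithfullyFlat_algebraMap_iff.2 hS) (RingHom.finiteType_algebraMap.2 hLCI.1))
  obtain ⟨n, f, hf⟩ := Algebra.FiniteType.iff_quotient_mvPolynomial''.1 hft
  refine ⟨hft, n, f, hf, ?_⟩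
  let P := MvPolynomial (Fin n) R
  let f' : S ⊗[R] P →ₐ[S] S ⊗[R] T := Algebra.TensorProduct.map (AlgHom.id S S) f
  have hf' : Function.Surjective f' := Algebra.TensorProduct.map_surjective _ _ Function.surjective_id hf
  let e := MvPolynomial.algebraTensorAlgEquiv R (σ := Fin n) S
  let g : MvPolynomial (Fin n) S →ₐ[S] S ⊗[R] T := f'.comp e.symm.toAlgHom
  have h1 : LCI.IsKoszulRegularIdeal (RingHom.ker f'.toRingHom) :=
    (isKRI_ker_equiv_iff e.symm.toRingEquiv f'.toRingHom g.toRingHom rfl).1
      (isKRI_ker_of_isLCI hLCI g (hf'.comp (AlgEquiv.surjective _)))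
  let c : P ⊗[R] S ≃+* S ⊗[R] P := (Algebra.TensorProduct.comm R P S).toRingEquiv
  have hfun : c.toRingHom.comp (algebraMap P (P ⊗[R] S)) =
      (Algebra.TensorProduct.includeRight : P →ₐ[R] S ⊗[R] P).toRingHom :=
    RingHom.ext fun x => Algebra.TensorProduct.comm_tmul _ _ _
  have hker : RingHom.ker f'.toRingHom =
      ((RingHom.ker f.toRingHom).map (algebraMap P (P ⊗[R] S))).map c.toRingHom := by
    rw [Ideal.map_map, hfun]
    exact Algebra.TensorProduct.lTensor_ker (A := S) f hf
  have h2 := isKRI_equiv c.symm h1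
  rw [hker, Ideal.map_map,
    show c.symm.toRingHom.comp c.toRingHom = RingHom.id _ from RingHom.ext c.symm_apply_apply,
    Ideal.map_id] at h2
  exact isKRI_descent (S := P ⊗[R] S) h2

/-- Morphisms all of whose affine ring maps are LCI. -/
def SchLCI : MorphismProperty Scheme.{u} := affineLocally fun {R S} => RingLCI (R := R) (S := S)

instance : HasRingHomProperty (@SchLCI.{u}) RingLCI where
  isLocal_ringHomProperty := propertyIsLocal
  eq_affineLocally' := rfl

theorem schLCI_iff {X Y : Scheme.{u}} (f : X ⟶ Y) :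
    SchLCI f ↔ ∀ (U : X.Opens) (V : Y.Opens) (_ : IsAffineOpen U) (_ : IsAffineOpen V) (hUV : U ≤ f ⁻¹ᵁ V),
      letI := (f.appLE V U hUV).hom.toAlgebra
      LCI.IsLCI Γ(Y, V) Γ(X, U) := by
  rw [SchLCI, affineLocally_iff_affineOpens_le]
  exact ⟨fun h U V hU hV e => h ⟨V, hV⟩ ⟨U, hU⟩ e, fun h U V e => h V.1 U.1 V.2 U.2 e⟩

instance : (@SchLCI.{u}).IsStableUnderComposition :=
  HasRingHomProperty.stableUnderComposition stableUnderComposition

theorem of_pullback_of_localIso {X X' Y Y' : Scheme.{u}} {p : X' ⟶ X} [IsLocalIso p] {g : Y ⟶ X} {g' : Y' ⟶ X'}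
    {p' : Y' ⟶ Y} (sq : IsPullback p' g' g p) (h : SchLCI g) : SchLCI g' := by
  have hc : ∀ x : X', ∃ U : X'.Opens, x ∈ U ∧ IsOpenImmersion (U.ι ≫ p) :=
    IsLocalIso.exists_isOpenImmersion
  choose U hxU hU using hc
  refine (IsZariskiLocalAtTarget.iff_of_iSup_eq_top (P := @SchLCI.{u}) U
    (top_le_iff.1 fun x _ => TopologicalSpace.Opens.mem_iSup.2 ⟨x, hxU x⟩)).2 fun x => ?_
  haveI := hU x
  exact IsZariskiLocalAtTarget.of_isPullback (iY := (U x).ι ≫ p)
    ((isPullback_morphismRestrict g' (U x)).flip.paste_horiz sq) h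

theorem descendsAlong_flat :
    (@SchLCI.{u}).DescendsAlong (@Surjective ⊓ @Flat ⊓ @QuasiCompact) := by
  apply IsZariskiLocalAtTarget.descendsAlong
  intro R X Y f g hf h
  wlog hX : ∃ T, X = Spec T generalizing X
  · have _ : CompactSpace X := by simpa [← quasiCompact_iff_compactSpace f] using hf.2
    obtain ⟨W, p, hsurj, hp, hW⟩ := X.exists_hom_isAffine_of_isZariskiLocalAtSource @IsLocalIso
    haveI hp' := hp
    haveI hsurj' := hsurj
    let q := W.isoSpec.inv ≫ p
    haveI _h1 : IsLocalIso q := (MorphismProperty.cancel_left_of_respectsIso @IsLocalIso W.isoSpec.inv p).2 hp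
    haveI _h2 : Surjective q := inferInstanceAs (Surjective (W.isoSpec.inv ≫ p))
    haveI _h3 : Surjective f := hf.1.1
    haveI _h4 : Flat f := hf.1.2
    haveI _h5 : Flat q := (IsLocalIso.le_of_isZariskiLocalAtSource @Flat) _ _ q ‹IsLocalIso q›
    haveI hqc : QuasiCompact (q ≫ f) := inferInstance
    refine this (q ≫ f) ⟨⟨inferInstance, inferInstance⟩, inferInstance⟩ ?_ ⟨_, rfl⟩
    let l : pullback (q ≫ f) g ⟶ pullback f g := pullback.lift (pullback.fst (q ≫ f) g ≫ q) (pullback.snd (q ≫ f) g)
      (by rw [Category.assoc]; exact pullback.condition (f := q ≫ f) (g := g))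
    refine of_pullback_of_localIso (p := q) (p' := l) ?_ h
    refine IsPullback.of_right (h₁₂ := pullback.snd f g) (h₂₂ := f) ?_ (pullback.lift_fst _ _ _) (IsPullback.of_hasPullback f g).flip
    simp only [l, pullback.lift_snd]
    exact (IsPullback.of_hasPullback (q ≫ f) g).flip
  obtain ⟨T, rfl⟩ := hX
  obtain ⟨φ, rfl⟩ := Spec.map_surjective f
  wlog hY : ∃ S, Y = Spec S generalizing Y
  · rw [IsZariskiLocalAtSource.iff_of_openCover (P := @SchLCI.{u}) Y.affineCover]
    intro i
    have heq : pullback.fst (Spec.map φ) (Y.affineCover.f i ≫ g) =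
        pullback.map _ _ _ _ (𝟙 _) (Y.affineCover.f i) (𝟙 _) (by simp) (by simp) ≫
          pullback.fst (Spec.map φ) g := (pullback.lift_fst _ _ _).symm
    exact this _ (heq ▸ AlgebraicGeometry.IsZariskiLocalAtSource.comp h _) ⟨_, rfl⟩
  obtain ⟨S, rfl⟩ := hY
  refine of_pullback_fst_Spec_of_codescendsAlong _ (@Surjective ⊓ @Flat ⊓ @QuasiCompact) codescendsAlong
    (fun {R S f} hf => ?_) (fun {R S f} => HasRingHomProperty.Spec_iff (P := @SchLCI.{u})) hf h
  rw [RingHom.FaithfullyFlat.iff_flat_and_comap_surjective]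
  haveI := hf.1.1
  haveI : Surjective (Spec.map f) := hf.1.1
  exact ⟨(HasRingHomProperty.Spec_iff (P := @Flat)).1 hf.1.2, (Spec.map f).surjective⟩

end Groth.Agent.KRIdeal
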