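import Groth.Agent.KRIdeal.Basic
import Mathlib.Algebra.MvPolynomial.Equiv
import Mathlib.RingTheory.Polynomial.Basic
import Mathlib.RingTheory.TensorProduct.MvPolynomial
import Mathlib.RingTheory.Localization.Away.AdjoinRoot
import Mathlib.Algebra.Polynomial.Derivation
import Mathlib.RingTheory.LocalProperties.Basic
import Mathlib.RingTheory.RingHom.FiniteType

/-!
# Local complete intersection ring maps: any presentation, composition, base change, local nature
-/

set_option autoImplicit false
set_option linter.style.haveILetI false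

universe u

open scoped TensorProduct

namespace Groth.Agent.KRIdeal

open KoszulLib (Ex ex_iff)

section Basics

variable {R : Type u} [CommRing R]

theorem ex_singleton {s : R} (hs : IsSMulRegular R s) : Ex [s] :=
  (ex_iff _).2 (RegSeq.isKoszulRegularSeq_of_isWeaklyRegular
    ((RingTheory.Sequence.isWeaklyRegular_cons_iff R s []).2 ⟨hs, RingTheory.Sequence.IsWeaklyRegular.nil _ _⟩))

theorem isKRI_of_ex {l : List R} (h : Ex l) : LCI.IsKoszulRegularIdeal (Ideal.ofList l) :=
  (isKRI_iff _).2 fun p hp _ => by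
    refine at_of_away (g := 1) hp.one_notMem (Localization.Away (1 : R))
      (algebraMap R (Localization.Away (1 : R)) ∘ l.get) ?_ ?_
    · haveI : Module.Flat R (Localization.Away (1 : R)) := IsLocalization.flat _ (Submonoid.powers 1)
      rw [← List.map_ofFn]
      exact Ex.baseChange ((ex_ofFn_get l).2 h)
    · rw [Set.range_comp, ← Ideal.map_span, Set.range_list_get]

theorem isKRI_equiv {S : Type u} [CommRing S] (e : R ≃+* S) {I : Ideal R} (h : LCI.IsKoszulRegularIdeal I) :
    LCI.IsKoszulRegularIdeal (I.map e.toRingHom) := by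
  letI := e.toRingHom.toAlgebra
  haveI : Module.Flat R S := RingHom.Flat.of_bijective e.bijective
  exact isKRI_map h

theorem isKRI_ker_equiv_iff {S T : Type u} [CommRing S] [CommRing T] (e : R ≃+* S) (f : S →+* T) (f' : R →+* T)
    (hf : f' = f.comp e.toRingHom) :
    LCI.IsKoszulRegularIdeal (RingHom.ker f') ↔ LCI.IsKoszulRegularIdeal (RingHom.ker f) := by
  have h1 : (RingHom.ker f').map e.toRingHom = RingHom.ker f := by
    rw [hf]
    refine le_antisymm (Ideal.map_le_iff_le_comap.2 fun x hx => hx) fun x hx => ?_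
    change f x = 0 at hx
    have : e.symm x ∈ RingHom.ker (f.comp e.toRingHom) := by
      show f (e (e.symm x)) = 0
      rw [e.apply_symm_apply]; exact hx
    have h5 : e.toRingHom (e.symm x) ∈ (RingHom.ker (f.comp e.toRingHom)).map e.toRingHom :=
      Ideal.mem_map_of_mem e.toRingHom this
    rwa [show e.toRingHom (e.symm x) = x from e.apply_symm_apply x] at h5
  have h2 : (RingHom.ker f).map e.symm.toRingHom = RingHom.ker f' := by
    rw [← h1, Ideal.map_map]
    simp [RingEquiv.symm_comp]
  exact ⟨fun h => h1 ▸ isKRI_equiv e h, fun h => h2 ▸ isKRI_equiv e.symm h⟩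

open Polynomial in
theorem isKRI_comap_eval_iff (a : R) (J : Ideal R) :
    LCI.IsKoszulRegularIdeal J ↔ LCI.IsKoszulRegularIdeal (J.comap (Polynomial.evalRingHom a)) := by
  have hψ : Function.Surjective (Polynomial.evalRingHom a) := fun r => ⟨Polynomial.C r, by simp⟩
  have hker : RingHom.ker (Polynomial.evalRingHom a) = Ideal.span {X - C a} := Polynomial.ker_evalRingHom a
  have hs : Ex [(X - C a : R[X])] := ex_singleton fun x y h => by
    exact (monic_X_sub_C a).isRegular.left h
  refine ⟨fun h => isKRI_comap _ hψ J ?_ h, fun h => ?_⟩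
  · rw [hker, ← Ideal.ofList_singleton]
    exact isKRI_of_ex hs
  · have h1 := isKRI_map_of_derivation (Polynomial.evalRingHom a) hψ (Polynomial.derivative' : Derivation R R[X] R[X])
      (X - C a) hs hker _ (by simp) (fun P hP _ => by simpa using hP.one_notMem) h
    rwa [Ideal.map_comap_of_surjective _ hψ] at h1

end Basics

variable {A B : Type u} [CommRing A] [CommRing B] [Algebra A B]

/-- The kernel of the presentation given by `v`. -/
noncomputable abbrev pker (A : Type u) [CommRing A] {B : Type u} [CommRing B] [Algebra A B] {σ : Type} (v : σ → B) :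
    Ideal (MvPolynomial σ A) :=
  RingHom.ker (MvPolynomial.aeval (R := A) v).toRingHom

theorem pker_reindex {σ τ : Type} (e : σ ≃ τ) (v : τ → B) :
    LCI.IsKoszulRegularIdeal (pker A (v ∘ e)) ↔ LCI.IsKoszulRegularIdeal (pker A v) :=
  isKRI_ker_equiv_iff (MvPolynomial.renameEquiv A e).toRingEquiv _ _
    (congrArg AlgHom.toRingHom
      (MvPolynomial.algHom_ext (A := B) (f := MvPolynomial.aeval (v ∘ e))
        (g := (MvPolynomial.aeval v).comp (MvPolynomial.renameEquiv A e).toAlgHom) fun i => by simp))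

theorem pker_option {σ : Type} (v : σ → B) (hv : Function.Surjective (MvPolynomial.aeval (R := A) v))
    (v' : Option σ → B) (h : ∀ i, v' (some i) = v i) :
    LCI.IsKoszulRegularIdeal (pker A v) ↔ LCI.IsKoszulRegularIdeal (pker A v') := by
  obtain ⟨a, ha⟩ := hv (v' none)
  rw [isKRI_comap_eval_iff a]
  refine (iff_of_eq (congrArg _ (RingHom.comap_ker _ _))).trans ?_
  refine (isKRI_ker_equiv_iff (MvPolynomial.optionEquivLeft A σ).toRingEquiv _ _ ?_).symm
  refine RingHom.ext fun p => ?_
  show MvPolynomial.aeval v' p = MvPolynomial.aeval v ((MvPolynomial.optionEquivLeft A σ p).eval a)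
  induction p using MvPolynomial.induction_on with
  | C r => simp
  | add p q hp hq => simp [hp, hq]
  | mul_X p i hp => cases i <;> simp [hp, ha, h]

theorem surjective_of_comp {σ τ : Type} (f : σ → τ) (v : τ → B)
    (h : Function.Surjective (MvPolynomial.aeval (R := A) (v ∘ f))) :
    Function.Surjective (MvPolynomial.aeval (R := A) v) := fun b => by
  obtain ⟨p, rfl⟩ := h b
  exact ⟨MvPolynomial.rename f p, MvPolynomial.aeval_rename _ _ _⟩

theorem pker_sum {σ : Type} (v : σ → B) (hv : Function.Surjective (MvPolynomial.aeval (R := A) v))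
    (τ : Type) [Finite τ] :
    ∀ w : τ → B, LCI.IsKoszulRegularIdeal (pker A v) ↔ LCI.IsKoszulRegularIdeal (pker A (Sum.elim v w)) := by
  induction τ using Finite.induction_empty_option with
  | of_equiv e ih =>
    intro w
    rw [ih (w ∘ e), ← pker_reindex ((Equiv.refl σ).sumCongr e) (Sum.elim v w)]
    exact iff_of_eq (congrArg _ (congrArg _ (funext fun x => by cases x <;> rfl)))
  | h_empty =>
    intro w
    rw [← pker_reindex (Equiv.sumEmpty σ PEmpty) v]
    exact iff_of_eq (congrArg _ (congrArg _ (funext fun x => by cases x with | inl => rfl | inr e => exact e.elim)))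
  | h_option ih =>
    rename_i τ _
    intro w
    rw [ih (w ∘ some)]
    let e : Option (σ ⊕ τ) ≃ σ ⊕ Option τ :=
      ⟨fun x => x.elim (.inr none) (Sum.map id some), Sum.elim (fun i => some (.inl i)) (fun t => t.map .inr),
        fun x => by rcases x with _ | (i | t) <;> rfl, fun x => by rcases x with i | (_ | t) <;> rfl⟩
    rw [← pker_reindex e (Sum.elim v w)]
    refine pker_option _ (surjective_of_comp Sum.inl _ (show Function.Surjective (MvPolynomial.aeval (R := A) (Sum.elim v (w ∘ some) ∘ Sum.inl)) from hv)) _ fun i => ?_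
    cases i <;> rfl

theorem pker_indep {σ τ : Type} [Finite σ] [Finite τ] (v : σ → B) (w : τ → B)
    (hv : Function.Surjective (MvPolynomial.aeval (R := A) v))
    (hw : Function.Surjective (MvPolynomial.aeval (R := A) w)) (h : LCI.IsKoszulRegularIdeal (pker A v)) :
    LCI.IsKoszulRegularIdeal (pker A w) := by
  rw [pker_sum w hw σ v, ← pker_reindex (Equiv.sumComm σ τ) (Sum.elim w v)]
  rw [pker_sum v hv τ w] at h
  refine (iff_of_eq (congrArg _ (congrArg _ (funext fun x => by cases x <;> rfl)))).1 h

theorem isLCI_of_pker {σ : Type} [Finite σ] (v : σ → B) (hv : Function.Surjective (MvPolynomial.aeval (R := A) v))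
    (h : LCI.IsKoszulRegularIdeal (pker A v)) : LCI.IsLCI A B := by
  obtain ⟨n, ⟨e⟩⟩ := Finite.exists_equiv_fin σ
  have hs : Function.Surjective (MvPolynomial.aeval (R := A) (v ∘ e.symm)) :=
    surjective_of_comp e _ (by rwa [Function.comp_assoc, Equiv.symm_comp_self, Function.comp_id])
  exact ⟨Algebra.FiniteType.of_surjective (MvPolynomial.aeval (R := A) (v ∘ e.symm)) hs, n, _, hs,
    (pker_reindex e.symm v).2 h⟩

theorem exists_pker (h : LCI.IsLCI A B) :
    ∃ (n : ℕ) (v : Fin n → B), Function.Surjective (MvPolynomial.aeval (R := A) v) ∧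
      LCI.IsKoszulRegularIdeal (pker A v) := by
  obtain ⟨-, n, f, hf, hk⟩ := h
  refine ⟨n, fun i => f (MvPolynomial.X i), ?_⟩
  have he : (MvPolynomial.aeval fun i => f (MvPolynomial.X i)) = f := (MvPolynomial.aeval_unique f).symm
  exact ⟨by rw [he]; exact hf, by rw [pker, he]; exact hk⟩

theorem isKRI_ker_of_isLCI (h : LCI.IsLCI A B) {n : ℕ} (α : MvPolynomial (Fin n) A →ₐ[A] B)
    (hα : Function.Surjective α) : LCI.IsKoszulRegularIdeal (RingHom.ker α.toRingHom) := by
  obtain ⟨m, v, hv, hk⟩ := exists_pker h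
  have he : (MvPolynomial.aeval fun i => α (MvPolynomial.X i)) = α := (MvPolynomial.aeval_unique α).symm
  have := pker_indep v (fun i => α (MvPolynomial.X i)) hv (by rw [he]; exact hα) hk
  rwa [pker, he] at this

theorem isLCI_algEquiv {B' : Type u} [CommRing B'] [Algebra A B'] (e : B ≃ₐ[A] B') (h : LCI.IsLCI A B) :
    LCI.IsLCI A B' := by
  obtain ⟨hft, n, f, hf, hk⟩ := h
  refine ⟨hft.of_surjective e.toAlgHom e.surjective, n, e.toAlgHom.comp f, e.surjective.comp hf, ?_⟩
  convert hk using 1
  ext x
  simp [RingHom.mem_ker]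

theorem isLCI_trans (A B C : Type u) [CommRing A] [CommRing B] [CommRing C] [Algebra A B] [Algebra B C]
    [Algebra A C] [IsScalarTower A B C] (h₁ : LCI.IsLCI A B) (h₂ : LCI.IsLCI B C) : LCI.IsLCI A C := by
  obtain ⟨n, v, hv, hk⟩ := exists_pker h₁
  obtain ⟨m, w, hw, hk'⟩ := exists_pker h₂
  let α : MvPolynomial (Fin n) A →+* B := (MvPolynomial.aeval (R := A) v).toRingHom
  let ψ : MvPolynomial (Fin m) (MvPolynomial (Fin n) A) →+* MvPolynomial (Fin m) B := MvPolynomial.map α
  have hψ : Function.Surjective ψ := MvPolynomial.map_surjective α hv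
  have hkψ : LCI.IsKoszulRegularIdeal (RingHom.ker ψ) := by
    rw [MvPolynomial.ker_map]
    exact isKRI_map hk
  have h3 := isKRI_comap ψ hψ (pker B w) hkψ hk'
  rw [RingHom.comap_ker] at h3
  let u : Fin m ⊕ Fin n → C := Sum.elim w (algebraMap B C ∘ v)
  have hu : MvPolynomial.aeval (R := A) u =
      (MvPolynomial.aevalTower ((IsScalarTower.toAlgHom A B C).comp (MvPolynomial.aeval (R := A) v)) w).comp
        (MvPolynomial.sumAlgEquiv A (Fin m) (Fin n)).toAlgHom :=
    MvPolynomial.algHom_ext fun i => by cases i <;> simp [u]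
  have hcomp : (MvPolynomial.aeval (R := B) w).toRingHom.comp ψ =
      (MvPolynomial.aevalTower ((IsScalarTower.toAlgHom A B C).comp (MvPolynomial.aeval (R := A) v)) w).toRingHom :=
    MvPolynomial.ringHom_ext (fun r => by
      show MvPolynomial.aeval w (MvPolynomial.map α (MvPolynomial.C r)) = _
      rw [MvPolynomial.map_C, MvPolynomial.aeval_C]
      show algebraMap B C (α r) = MvPolynomial.aevalTower _ w (MvPolynomial.C r)
      rw [MvPolynomial.aevalTower_C]
      rfl) (fun i => by simp [ψ])
  refine isLCI_of_pker u ?_ ((isKRI_ker_equiv_iff (MvPolynomial.sumAlgEquiv A (Fin m) (Fin n)).toRingEquiv _ _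
    (congrArg AlgHom.toRingHom hu)).2 (hcomp ▸ h3))
  rw [hu]
  refine Function.Surjective.comp (g := MvPolynomial.aevalTower _ w) (f := (MvPolynomial.sumAlgEquiv A (Fin m) (Fin n))) (fun c => ?_) (AlgEquiv.surjective _)
  obtain ⟨q, rfl⟩ := hw c
  obtain ⟨q', rfl⟩ := hψ q
  exact ⟨q', (RingHom.congr_fun hcomp q').symm⟩

theorem isLCI_baseChange (A B A' : Type u) [CommRing A] [CommRing B] [CommRing A'] [Algebra A B] [Algebra A A']
    [Module.Flat A A'] (h : LCI.IsLCI A B) : LCI.IsLCI A' (A' ⊗[A] B) := by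
  obtain ⟨hft, n, f, hf, hk⟩ := h
  let P := MvPolynomial (Fin n) A
  let f' : A' ⊗[A] P →ₐ[A'] A' ⊗[A] B := Algebra.TensorProduct.map (AlgHom.id A' A') f
  have hf' : Function.Surjective f' := Algebra.TensorProduct.map_surjective _ _ Function.surjective_id hf
  let c : P ⊗[A] A' ≃+* A' ⊗[A] P := (Algebra.TensorProduct.comm A P A').toRingEquiv
  have h1 : LCI.IsKoszulRegularIdeal ((RingHom.ker f.toRingHom).map
      (algebraMap P (P ⊗[A] A'))) := isKRI_map hk
  have h2 := isKRI_equiv c h1
  rw [Ideal.map_map] at h2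
  have hker : RingHom.ker f'.toRingHom =
      (RingHom.ker f.toRingHom).map (c.toRingHom.comp (algebraMap P (P ⊗[A] A'))) := by
    have hfun : c.toRingHom.comp (algebraMap P (P ⊗[A] A')) =
        (Algebra.TensorProduct.includeRight : P →ₐ[A] A' ⊗[A] P).toRingHom :=
      RingHom.ext fun x => Algebra.TensorProduct.comm_tmul _ _ _
    rw [hfun]
    exact Algebra.TensorProduct.lTensor_ker (A := A') f hf
  rw [← hker] at h2
  let e := MvPolynomial.algebraTensorAlgEquiv A (σ := Fin n) A'
  let g : MvPolynomial (Fin n) A' →ₐ[A'] A' ⊗[A] B := f'.comp e.symm.toAlgHom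
  have hg : Function.Surjective g := hf'.comp (AlgEquiv.surjective _)
  exact ⟨Algebra.FiniteType.baseChange A', n, g, hg,
    (isKRI_ker_equiv_iff e.symm.toRingEquiv f'.toRingHom g.toRingHom rfl).2 h2⟩

section Away

open Polynomial

variable {P : Type u} [CommRing P]

theorem isSMulRegular_CX_sub_one (β : P) : IsSMulRegular P[X] (C β * X - 1) := by
  rw [isSMulRegular_iff_right_eq_zero_of_smul]
  intro q hq
  rw [smul_eq_mul, sub_mul, one_mul, sub_eq_zero] at hq
  ext k
  induction k with
  | zero => rw [← hq]; simp [mul_assoc]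
  | succ k ih => rw [← hq, mul_assoc, coeff_C_mul, coeff_X_mul, ih, coeff_zero, mul_zero, coeff_zero]

theorem isKRI_CX_sub_one (β : P) : LCI.IsKoszulRegularIdeal (Ideal.span {C β * X - 1}) := by
  rw [← Ideal.ofList_singleton]
  exact isKRI_of_ex (ex_singleton (isSMulRegular_CX_sub_one β))

/-- The kernel of a presentation descends to the open set where a lift of an inverted element is a unit. -/
theorem isKRI_away {T : Type u} [CommRing T] (α : P →+* T) (β : P) (L : Type u) [CommRing L] [Algebra T L]
    [IsLocalization.Away (α β) L] (x : L) (hx : algebraMap T L (α β) * x = 1)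
    (h : LCI.IsKoszulRegularIdeal (RingHom.ker (Polynomial.eval₂RingHom ((algebraMap T L).comp α) x))) :
    ∃ (L₀ : Type u) (_ : CommRing L₀) (_ : Algebra P L₀) (_ : IsLocalization.Away β L₀),
      LCI.IsKoszulRegularIdeal ((RingHom.ker α).map (algebraMap P L₀)) := by
  let s : P[X] := C β * X - 1
  let ψ : P[X] →+* AdjoinRoot s := AdjoinRoot.mk s
  haveI : IsLocalization.Away β (AdjoinRoot s) := IsLocalization.adjoin_inv β
  refine ⟨AdjoinRoot s, inferInstance, inferInstance, inferInstance, ?_⟩
  set φ := Polynomial.eval₂RingHom ((algebraMap T L).comp α) x with hφ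
  have hsφ : s ∈ RingHom.ker φ := by simp [RingHom.mem_ker, hφ, s, hx]
  have hker : RingHom.ker ψ = Ideal.span {s} := by
    ext p; rw [RingHom.mem_ker, AdjoinRoot.mk_eq_zero, Ideal.mem_span_singleton]
  have h1 := isKRI_map_of_derivation ψ AdjoinRoot.mk_surjective (Polynomial.derivative' : Derivation P P[X] P[X])
    s (ex_singleton (isSMulRegular_CX_sub_one β)) hker _ hsφ (fun Q hQ hle hD => hQ.one_notMem ?_) h
  · convert h1 using 1
    have hC : algebraMap P (AdjoinRoot s) = ψ.comp C := AdjoinRoot.algebraMap_eq s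
    refine le_antisymm (Ideal.map_le_iff_le_comap.2 fun a ha => ?_) (Ideal.map_le_iff_le_comap.2 fun p hp => ?_)
    · rw [Ideal.mem_comap, hC]
      exact Ideal.mem_map_of_mem ψ (by simp [RingHom.mem_ker, hφ, RingHom.mem_ker.1 ha])
    · rw [Ideal.mem_comap]
      obtain ⟨k, a, ha⟩ := IsLocalization.Away.surj β (ψ p)
      have hu : IsUnit (algebraMap P (AdjoinRoot s) β ^ k) := (IsLocalization.Away.algebraMap_isUnit β).pow k
      rw [← Ideal.mul_unit_mem_iff_mem _ hu, ha]
      have h0 : φ (p * C β ^ k - C a) = 0 := by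
        have hmem : p * C β ^ k - C a ∈ Ideal.span {s} := by
          rw [← hker, RingHom.mem_ker, map_sub, map_mul, map_pow, sub_eq_zero]
          rw [hC] at ha; exact ha
        exact RingHom.mem_ker.1 ((Ideal.span_singleton_le_iff_mem _).2 hsφ hmem)
      rw [map_sub, map_mul, RingHom.mem_ker.1 hp, zero_mul, zero_sub, neg_eq_zero] at h0
      have h2 : algebraMap T L (α a) = algebraMap T L 0 := by simpa [hφ] using h0
      obtain ⟨⟨_, j, rfl⟩, hj⟩ := (IsLocalization.eq_iff_exists (Submonoid.powers (α β)) L).1 h2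
      rw [← Ideal.unit_mul_mem_iff_mem _ ((IsLocalization.Away.algebraMap_isUnit β).pow j), ← map_pow, ← map_mul]
      refine Ideal.mem_map_of_mem _ ?_
      simpa [RingHom.mem_ker] using hj
  · have h2 : C β ∈ Q := by simpa [s] using hD
    have h3 : C β * X - 1 ∈ Q := hle hsφ
    have : (1 : P[X]) = C β * X - (C β * X - 1) := by ring
    rw [this]
    exact sub_mem (Q.mul_mem_right _ h2) h3

theorem isLCI_away (A : Type u) [CommRing A] (a : A) (L : Type u) [CommRing L] [Algebra A L]
    [IsLocalization.Away a L] : LCI.IsLCI A L := by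
  let s : A[X] := C a * X - 1
  haveI : IsLocalization.Away a (AdjoinRoot s) := IsLocalization.adjoin_inv a
  refine isLCI_algEquiv (IsLocalization.algEquiv (Submonoid.powers a) (AdjoinRoot s) L) ?_
  let e := MvPolynomial.uniqueAlgEquiv A (Fin 1)
  let f : MvPolynomial (Fin 1) A →ₐ[A] AdjoinRoot s := (AdjoinRoot.mkₐ s).comp e.toAlgHom
  have hf : Function.Surjective f := AdjoinRoot.mk_surjective.comp e.surjective
  refine ⟨Algebra.FiniteType.of_surjective f hf, 1, f, hf, ?_⟩
  refine (isKRI_ker_equiv_iff e.toRingEquiv (AdjoinRoot.mk s) _ rfl).2 ?_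
  convert isKRI_CX_sub_one a using 1
  ext p; rw [RingHom.mem_ker, AdjoinRoot.mk_eq_zero, Ideal.mem_span_singleton]

end Away

theorem isLCI_of_span (A B : Type u) [CommRing A] [CommRing B] [Algebra A B] (s : Set B) (hs : Ideal.span s = ⊤)
    (h : ∀ b ∈ s, LCI.IsLCI A (Localization.Away b)) : LCI.IsLCI A B := by
  have hft : Algebra.FiniteType A B := by
    rw [← RingHom.finiteType_algebraMap]
    refine RingHom.finiteType_ofLocalizationSpanTarget (algebraMap A B) s hs fun b => ?_
    rw [← IsScalarTower.algebraMap_eq A B (Localization.Away (b : B)), RingHom.finiteType_algebraMap]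
    exact (h b b.2).1
  obtain ⟨n, α, hα⟩ := Algebra.FiniteType.iff_quotient_mvPolynomial''.1 hft
  refine ⟨hft, n, α, hα, isKRI_of_local fun p hp hle => ?_⟩
  obtain ⟨b, hb, hbp⟩ : ∃ b ∈ s, ∀ β, α β = b → β ∉ p := by
    by_contra hcon
    push Not at hcon
    have h1 : Ideal.span s ≤ p.map α.toRingHom := by
      rw [Ideal.span_le]
      intro b hb
      obtain ⟨β, rfl, hβ⟩ := hcon b hb
      exact Ideal.mem_map_of_mem _ hβ
    have h2 : p.map α.toRingHom ≠ ⊤ :=
      haveI := Ideal.map_isPrime_of_surjective (f := α.toRingHom) hα hle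
      Ideal.IsPrime.ne_top'
    exact h2 (top_le_iff.1 (hs ▸ h1))
  obtain ⟨β, rfl⟩ := hα b
  refine ⟨β, hbp β rfl, ?_⟩
  let L := Localization.Away (α β)
  let x : L := IsLocalization.Away.invSelf (α β)
  have hx : algebraMap B L (α β) * x = 1 := IsLocalization.Away.mul_invSelf _
  let v : Option (Fin n) → L := fun o => o.elim x fun i => algebraMap B L (α (MvPolynomial.X i))
  let φ : Polynomial (MvPolynomial (Fin n) A) →+* L :=
    Polynomial.eval₂RingHom ((algebraMap B L).comp α.toRingHom) x
  have he : (MvPolynomial.aeval (R := A) v).toRingHom = φ.comp (MvPolynomial.optionEquivLeft A (Fin n)).toRingEquiv.toRingHom := by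
    refine MvPolynomial.ringHom_ext (fun r => ?_) (fun i => ?_)
    · simp [φ, IsScalarTower.algebraMap_apply A B L]
    · cases i <;> simp [φ, v]
  have hv : Function.Surjective (MvPolynomial.aeval (R := A) v) := by
    intro y
    obtain ⟨k, a, ha⟩ := IsLocalization.Away.surj (α β) y
    obtain ⟨a, rfl⟩ := hα a
    refine ⟨(MvPolynomial.optionEquivLeft A (Fin n)).symm (Polynomial.C a * Polynomial.X ^ k), ?_⟩
    have := RingHom.congr_fun he ((MvPolynomial.optionEquivLeft A (Fin n)).symm (Polynomial.C a * Polynomial.X ^ k))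
    refine this.trans ?_
    simp only [RingHom.comp_apply, RingEquiv.toRingHom_eq_coe, RingHom.coe_coe, AlgEquiv.coe_ringEquiv,
      AlgEquiv.apply_symm_apply]
    simp only [φ, map_mul, map_pow, Polynomial.coe_eval₂RingHom, Polynomial.eval₂_C, Polynomial.eval₂_X]
    show algebraMap B L (α a) * x ^ k = y
    rw [← ha, mul_assoc, ← mul_pow, hx, one_pow, mul_one]
  obtain ⟨m, w, hw, hk⟩ := exists_pker (h _ hb)
  have h2 := (isKRI_ker_equiv_iff _ φ _ he).1 (pker_indep w v hw hv hk)
  exact isKRI_away α.toRingHom β L x hx h2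

end Groth.Agent.KRIdeal
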