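import Groth.Agent.KRIdeal.Pres
import Mathlib.RingTheory.Flat.EquationalCriterion
import Mathlib.RingTheory.Flat.FaithfullyFlat.Algebra
import Mathlib.LinearAlgebra.Matrix.NonsingularInverse
import Mathlib.RingTheory.Localization.Finiteness
import Mathlib.RingTheory.Finiteness.Descent

/-!
# Faithfully flat descent of Koszul regular ideals and of LCI ring maps
-/

set_option autoImplicit false
set_option linter.style.haveILetI false

universe u

open scoped TensorProduct

namespace Groth.Agent.KRIdeal

open KoszulLib (Ex ex_iff)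

variable {R : Type u} [CommRing R]

theorem fg_of_local {I : Ideal R} (h : ∀ (m : Ideal R) [m.IsMaximal], I ≤ m →
    ∃ g ∉ m, (I.map (algebraMap R (Localization.Away g))).FG) : I.FG := by
  refine Ideal.fg_of_localizationSpan {g | (I.map (algebraMap R (Localization.Away g))).FG} ?_ fun g => g.2
  by_contra hne
  obtain ⟨m, hm, hle⟩ := Ideal.exists_le_maximal _ hne
  by_cases hIm : I ≤ m
  · obtain ⟨g, hgm, hg⟩ := h m hIm
    exact hgm (hle (Ideal.subset_span hg))
  · obtain ⟨x, hx, hxm⟩ := SetLike.not_le_iff_exists.1 hIm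
    refine hxm (hle (Ideal.subset_span ?_))
    show (I.map (algebraMap R (Localization.Away x))).FG
    rw [Ideal.eq_top_of_isUnit_mem _ (Ideal.mem_map_of_mem _ hx) (IsLocalization.Away.algebraMap_isUnit x)]
    exact Ideal.fg_top _

theorem fg_span_range {ι : Type} [Finite ι] (v : ι → R) : (Ideal.span (Set.range v)).FG :=
  Submodule.fg_span (Set.finite_range v)

theorem isKRI_fg {I : Ideal R} (h : LCI.IsKoszulRegularIdeal I) : I.FG :=
  fg_of_local fun m hm hle => by
    obtain ⟨g, hg, r, f, hd⟩ := (isKRI_iff I).1 h m hle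
    refine ⟨g, hg, ?_⟩
    rw [hd.map_eq]
    exact (fg_span_range f).map _

theorem exists_rows {K : Type u} [Field K] {N r : ℕ} (C : Matrix (Fin N) (Fin r) K) (D : Matrix (Fin r) (Fin N) K)
    (h : D * C = 1) : ∃ e : Fin r → Fin N, IsUnit (C.submatrix e id).det := by
  classical
  obtain ⟨κ, a, ha, hsp, hli⟩ := exists_linearIndependent' K (fun i => (C i : Fin r → K))
  have htop : Submodule.span K (Set.range fun i => (C i : Fin r → K)) = ⊤ := by
    rw [eq_top_iff, ← (Pi.basisFun K (Fin r)).span_eq, Submodule.span_le]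
    rintro _ ⟨j, rfl⟩
    have : (Pi.basisFun K (Fin r) j : Fin r → K) = ∑ i, D j i • (C i : Fin r → K) := by
      funext k
      have := congrFun (congrFun h j) k
      simp only [Matrix.mul_apply] at this
      simp [this, Matrix.one_apply, Pi.single_apply, eq_comm]
    rw [this]
    exact Submodule.sum_mem _ fun i _ => Submodule.smul_mem _ _ (Submodule.subset_span ⟨i, rfl⟩)
  let b := Module.Basis.mk hli (by rw [hsp, htop])
  let ε : Fin r ≃ κ := (Pi.basisFun K (Fin r)).indexEquiv b
  refine ⟨a ∘ ε, ?_⟩
  rw [← Matrix.isUnit_iff_isUnit_det, ← Matrix.linearIndependent_rows_iff_isUnit]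
  exact hli.comp ε ε.injective

/-- `span f` and all coefficients of relations among the `f i`. -/
def relIdeal {r : ℕ} (f : Fin r → R) : Ideal R :=
  Ideal.span (Set.range f) ⊔ Ideal.span {x | ∃ a : Fin r → R, ∑ i, a i * f i = 0 ∧ ∃ i, a i = x}

section Compare

variable {L : Type u} [CommRing L] [Algebra R L] [Module.Flat R L]

theorem coeff_mem_relIdeal {r : ℕ} {f : Fin r → R} {b : Fin r → L}
    (h : ∑ i, b i * algebraMap R L (f i) = 0) (i : Fin r) : b i ∈ (relIdeal f).map (algebraMap R L) := by
  have h' : ∑ i, f i • b i = 0 := by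
    rw [← h]; exact Finset.sum_congr rfl fun j _ => by rw [Algebra.smul_def, mul_comm]
  obtain ⟨k, a, y, hy, ha⟩ := Module.Flat.isTrivialRelation_of_sum_smul_eq_zero (R := R) (M := L) (f := f) (x := b) h'
  rw [hy i]
  refine Ideal.sum_mem _ fun j _ => ?_
  rw [Algebra.smul_def]
  refine Ideal.mul_mem_right _ _ (Ideal.mem_map_of_mem _ (Submodule.mem_sup_right (Ideal.subset_span ?_)))
  exact ⟨fun i => a i j, (Finset.sum_congr rfl fun i _ => mul_comm _ _).trans (ha j), i, rfl⟩

theorem compare {r s : ℕ} {f : Fin r → R} {l : Fin s → L} (hl : Ex (List.ofFn l))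
    (e : Ideal.span (Set.range (algebraMap R L ∘ f)) = Ideal.span (Set.range l))
    (hne : Ideal.span (Set.range l) ≠ ⊤) :
    (s < r ∧ (relIdeal f).map (algebraMap R L) = ⊤) ∨
      (s = r ∧ Ex (List.ofFn (algebraMap R L ∘ f)) ∧
        (relIdeal f).map (algebraMap R L) = Ideal.span (Set.range l)) := by
  classical
  rcases (card_le_of_span hl hne e).lt_or_eq with hlt | heq
  · refine Or.inl ⟨hlt, by_contra fun htop => ?_⟩
    obtain ⟨m, hm, hle⟩ := Ideal.exists_le_maximal _ htop
    obtain ⟨C, hC⟩ := exists_matrix_of_le e.le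
    obtain ⟨D, hD⟩ := exists_matrix_of_le e.ge
    have hrel : ∀ i j, (C * D) i j - (1 : Matrix (Fin r) (Fin r) L) i j ∈ (relIdeal f).map (algebraMap R L) := by
      intro i j
      refine coeff_mem_relIdeal (b := fun j => (C * D) i j - (1 : Matrix (Fin r) (Fin r) L) i j) ?_ j
      simp only [sub_mul, Finset.sum_sub_distrib, Matrix.mul_apply, Finset.sum_mul, Matrix.one_apply,
        ite_mul, one_mul, zero_mul, Finset.sum_ite_eq, Finset.mem_univ, if_true]
      rw [Finset.sum_comm, sub_eq_zero]
      refine Eq.trans (Finset.sum_congr rfl fun k _ => ?_) (hC i).symm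
      rw [hD k, Finset.mul_sum]
      exact Finset.sum_congr rfl fun _ _ => mul_assoc _ _ _
    let π := Ideal.Quotient.mk m
    letI : Field (L ⧸ m) := Ideal.Quotient.field m
    have h1 : (C.map π) * (D.map π) = (1 : Matrix (Fin r) (Fin r) (L ⧸ m)) := by
      rw [← Matrix.map_mul, ← Matrix.map_one π (map_zero π) (map_one π)]
      ext i j
      exact (Ideal.Quotient.eq).2 (hle (hrel i j))
    have h2 := Matrix.rank_mul_le_left (C.map π) (D.map π)
    rw [h1, Matrix.rank_one, Fintype.card_fin] at h2
    exact absurd (h2.trans ((Matrix.rank_le_card_width _).trans (by simp))) (not_le.2 hlt)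
  · subst heq
    have hex := ex_of_span_eq hl e
    refine Or.inr ⟨rfl, hex, le_antisymm (Ideal.map_le_iff_le_comap.2 ?_) ?_⟩
    · refine sup_le (Ideal.span_le.2 ?_) (Ideal.span_le.2 ?_)
      · rintro _ ⟨i, rfl⟩
        refine Ideal.mem_comap.2 ?_
        rw [← e]; exact Ideal.subset_span ⟨i, rfl⟩
      · rintro _ ⟨a, ha, i, rfl⟩
        refine Ideal.mem_comap.2 ?_
        rw [← e]
        refine coeff_mem_of_ex hex (a := algebraMap R L ∘ a) ?_ i
        show ∑ i, algebraMap R L (a i) * algebraMap R L (f i) = 0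
        simp only [← map_mul, ← map_sum, ha, map_zero]
    · rw [← e, Ideal.span_le]
      rintro _ ⟨i, rfl⟩
      exact Ideal.mem_map_of_mem _ (Submodule.mem_sup_left (Ideal.subset_span ⟨i, rfl⟩))

theorem map_relIdeal_le {r : ℕ} {f : Fin r → R} (hf : Ex (List.ofFn (algebraMap R L ∘ f))) :
    (relIdeal f).map (algebraMap R L) ≤ (Ideal.span (Set.range f)).map (algebraMap R L) := by
  rw [Ideal.map_span, ← Set.range_comp]
  refine Ideal.map_le_iff_le_comap.2 (sup_le (Ideal.span_le.2 ?_) (Ideal.span_le.2 ?_))
  · rintro _ ⟨i, rfl⟩; exact Ideal.subset_span ⟨i, rfl⟩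
  · rintro _ ⟨a, ha, i, rfl⟩
    refine coeff_mem_of_ex hf (a := algebraMap R L ∘ a) ?_ i
    show ∑ i, algebraMap R L (a i) * algebraMap R L (f i) = 0
    simp only [← map_mul, ← map_sum, ha, map_zero]

end Compare

section Descent

variable {S : Type u} [CommRing S] [Algebra R S] [Module.FaithfullyFlat R S]

theorem fg_descent {I : Ideal R} (h : (I.map (algebraMap R S)).FG) : I.FG := by
  classical
  obtain ⟨T, hTs, hT⟩ := (Submodule.fg_span_iff_fg_span_finset_subset _).1 h
  choose x hxI hx using fun t : (T : Set S) => hTs t.2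
  have hmap : (Ideal.span (Set.range x)).map (algebraMap R S) = I.map (algebraMap R S) := by
    refine le_antisymm (Ideal.map_mono (Ideal.span_le.2 (by rintro _ ⟨t, rfl⟩; exact hxI t))) ?_
    refine le_trans (le_of_eq hT) (Submodule.span_le.2 fun t ht => ?_)
    rw [show t = algebraMap R S (x ⟨t, ht⟩) from (hx ⟨t, ht⟩).symm]
    exact Ideal.mem_map_of_mem _ (Ideal.subset_span ⟨_, rfl⟩)
  rw [← Ideal.map_injective_of_faithfullyFlat hmap]
  exact Submodule.fg_span (Set.finite_range x)

theorem faithfullyFlat_atPrime (p : Ideal R) [p.IsPrime] (q : Ideal S) [q.IsPrime]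
    (hq : q.comap (algebraMap R S) = p) :
    ∃ _ : Algebra (Localization.AtPrime p) (Localization.AtPrime q),
      IsScalarTower R (Localization.AtPrime p) (Localization.AtPrime q) ∧
      Module.FaithfullyFlat (Localization.AtPrime p) (Localization.AtPrime q) := by
  letI : Algebra (Localization.AtPrime p) (Localization.AtPrime q) :=
    (Localization.localRingHom p q (algebraMap R S) hq.symm).toAlgebra
  haveI : IsScalarTower R (Localization.AtPrime p) (Localization.AtPrime q) := IsScalarTower.of_algebraMap_eq fun x => by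
    show _ = Localization.localRingHom p q (algebraMap R S) hq.symm _
    rw [Localization.localRingHom_to_map, IsScalarTower.algebraMap_apply R S (Localization.AtPrime q)]
  haveI : Module.Flat R (Localization.AtPrime q) := Module.Flat.trans R S _
  haveI : Module.Flat (Localization.AtPrime p) (Localization.AtPrime q) :=
    (Module.flat_iff_of_isLocalization (Localization.AtPrime p) p.primeCompl _).2 inferInstance
  haveI : IsLocalHom (algebraMap (Localization.AtPrime p) (Localization.AtPrime q)) :=
    Localization.isLocalHom_localRingHom p q (algebraMap R S) hq.symm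
  exact ⟨inferInstance, inferInstance, Module.FaithfullyFlat.of_flat_of_isLocalHom⟩

theorem exists_map_eq {I J : Ideal R} (hI : I.FG) (hJI : J ≤ I) (p : Ideal R) [hpp : p.IsPrime] (q : Ideal S) [q.IsPrime]
    (hq : q.comap (algebraMap R S) = p)
    (h : I.map (algebraMap R (Localization.AtPrime q)) ≤ J.map (algebraMap R (Localization.AtPrime q))) :
    ∃ g ∉ p, I.map (algebraMap R (Localization.Away g)) = J.map (algebraMap R (Localization.Away g)) := by
  classical
  obtain ⟨_, hst, hff⟩ := faithfullyFlat_atPrime p q hq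
  have h1 : I.map (algebraMap R (Localization.AtPrime p)) = J.map (algebraMap R (Localization.AtPrime p)) :=
    Ideal.map_injective_of_faithfullyFlat (B := Localization.AtPrime q) (by
      rw [Ideal.map_map, Ideal.map_map, ← IsScalarTower.algebraMap_eq]
      exact le_antisymm h (Ideal.map_mono hJI))
  obtain ⟨T, rfl⟩ := hI
  have hx : ∀ t : (T : Set R), ∃ c ∉ p, c * t.1 ∈ J := fun t => by
    obtain ⟨c, hc, hc'⟩ := (IsLocalization.algebraMap_mem_map_algebraMap_iff p.primeCompl _ J t.1).1
      (h1 ▸ Ideal.mem_map_of_mem _ (Submodule.subset_span t.2))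
    exact ⟨c, hc, hc'⟩
  choose c hc hc' using hx
  refine ⟨∏ t, c t, fun hp => ?_, le_antisymm (Ideal.map_le_iff_le_comap.2 (Submodule.span_le.2 fun t ht => ?_))
    (Ideal.map_mono hJI)⟩
  · obtain ⟨t, -, ht⟩ := hpp.prod_mem_iff.1 hp
    exact hc t ht
  · refine Ideal.mem_comap.2 ?_
    have hu : IsUnit (algebraMap R (Localization.Away (∏ t, c t)) (c ⟨t, ht⟩)) :=
      isUnit_of_dvd_unit (map_dvd _ (Finset.dvd_prod_of_mem c (Finset.mem_univ _)))
        (IsLocalization.Away.algebraMap_isUnit _)
    rw [← Ideal.unit_mul_mem_iff_mem _ hu, ← map_mul]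
    exact Ideal.mem_map_of_mem _ (hc' ⟨t, ht⟩)

theorem core {r : ℕ} (f : Fin r → R) (hI : LCI.IsKoszulRegularIdeal ((Ideal.span (Set.range f)).map (algebraMap R S)))
    (p : Ideal R) [p.IsPrime] (q : Ideal S) [q.IsPrime] (hq : q.comap (algebraMap R S) = p)
    (hex : Ex (List.ofFn (algebraMap R (Localization.AtPrime q) ∘ f))) :
    ∃ g ∉ p, Data (Ideal.span (Set.range f)) g f := by
  classical
  set I := Ideal.span (Set.range f) with hIdef
  set 𝔞 := relIdeal f with h𝔞def
  have hI𝔞 : I ≤ 𝔞 := le_sup_left
  have hfg : (𝔞.map (algebraMap R S)).FG := fg_of_local fun n hn hle => by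
    have hIn : I.map (algebraMap R S) ≤ n := (Ideal.map_mono hI𝔞).trans hle
    obtain ⟨h, hh, s, l, hd⟩ := (isKRI_iff _).1 hI n hIn
    refine ⟨h, hh, ?_⟩
    let L := Localization.Away h
    haveI : Module.Flat R L := Module.Flat.trans R S L
    have hl : Ex (List.ofFn (algebraMap S L ∘ l)) := by rw [← List.map_ofFn]; exact hd.ex
    have e : Ideal.span (Set.range (algebraMap R L ∘ f)) = Ideal.span (Set.range (algebraMap S L ∘ l)) := by
      have := hd.map_eq
      rw [hIdef, Ideal.map_map, ← IsScalarTower.algebraMap_eq R S L, Ideal.map_span, Ideal.map_span,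
        ← Set.range_comp, ← Set.range_comp] at this
      exact this
    have hne : Ideal.span (Set.range (algebraMap S L ∘ l)) ≠ ⊤ := by
      rw [Set.range_comp, ← Ideal.map_span]
      refine (IsLocalization.map_algebraMap_ne_top_iff_disjoint (Submonoid.powers h) L _).2 ?_
      refine Set.disjoint_left.2 fun x hx hx' => hh ?_
      obtain ⟨k, rfl⟩ := hx
      exact (Ideal.IsMaximal.isPrime hn).mem_of_pow_mem k
        (Ideal.span_le.2 (by rintro _ ⟨i, rfl⟩; exact hIn (hd.mem i)) hx')
    rw [Ideal.map_map, ← IsScalarTower.algebraMap_eq R S L]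
    rcases compare hl e hne with ⟨-, ht⟩ | ⟨-, -, ht⟩
    · rw [ht]; exact Ideal.fg_top _
    · rw [ht]; exact fg_span_range _
  have hflatq : Module.Flat R (Localization.AtPrime q) := Module.Flat.trans R S _
  obtain ⟨g, hg, hgeq⟩ := exists_map_eq (fg_descent hfg) hI𝔞 p q hq (map_relIdeal_le hex)
  refine ⟨g, hg, fun i => Ideal.subset_span ⟨i, rfl⟩, ?_, rfl⟩
  refine ex_of_forall_maximal fun m hm => ?_
  let P := m.comap (algebraMap R (Localization.Away g))
  have hgP : g ∉ P := fun hc => hm.ne_top (Ideal.eq_top_of_isUnit_mem _ hc (IsLocalization.Away.algebraMap_isUnit g))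
  obtain ⟨q', hq', hlies⟩ := Ideal.exists_isPrime_liesOver_of_faithfullyFlat (B := S) P
  have hqP : q'.comap (algebraMap R S) = P := hlies.over.symm
  let L := Localization.AtPrime q'
  haveI : Module.Flat R L := Module.Flat.trans R S L
  have hgL : IsUnit (algebraMap R L g) := by
    rw [IsScalarTower.algebraMap_apply R S L]
    exact IsLocalization.map_units L (⟨algebraMap R S g, fun hc => hgP (hqP.le (Ideal.mem_comap.2 hc))⟩ : q'.primeCompl)
  have hexL : Ex (List.ofFn (algebraMap R L ∘ f)) := by
    by_cases hIq : I.map (algebraMap R S) ≤ q'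
    · obtain ⟨h, hh, s, l, hd⟩ := (isKRI_iff _).1 hI q' hIq
      have hu : IsUnit (algebraMap S L h) := IsLocalization.map_units L (⟨h, hh⟩ : q'.primeCompl)
      obtain ⟨hl, hspan⟩ := hd.transfer L hu
      have e : Ideal.span (Set.range (algebraMap R L ∘ f)) = Ideal.span (Set.range (algebraMap S L ∘ l)) := by
        rw [← hspan, hIdef, Ideal.map_map, ← IsScalarTower.algebraMap_eq R S L, Ideal.map_span, ← Set.range_comp]
      have hne : Ideal.span (Set.range (algebraMap S L ∘ l)) ≠ ⊤ := by
        rw [← hspan]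
        refine (IsLocalization.map_algebraMap_ne_top_iff_disjoint q'.primeCompl L _).2 ?_
        exact Set.disjoint_left.2 fun x hx hx' => hx (hIq hx')
      rcases compare hl e hne with ⟨-, ht⟩ | ⟨-, hx, -⟩
      · exfalso
        let ψ : Localization.Away g →+* L := IsLocalization.lift (M := Submonoid.powers g) (isUnit_powers _ hgL)
        have hψ : ψ.comp (algebraMap R (Localization.Away g)) = algebraMap R L := IsLocalization.lift_comp _
        rw [← hψ, ← Ideal.map_map, hgeq, Ideal.map_map, hψ, hIdef, Ideal.map_span, ← Set.range_comp, e] at ht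
        exact hne ht
      · exact hx
    · refine ex_of_ofList_eq_top ?_
      obtain ⟨x, hx, hxq⟩ := SetLike.not_le_iff_exists.1 hIq
      rw [ofList_ofFn, Set.range_comp, ← Ideal.map_span, IsScalarTower.algebraMap_eq R S L, ← Ideal.map_map]
      exact Ideal.eq_top_of_isUnit_mem _ (Ideal.mem_map_of_mem _ hx)
        (IsLocalization.map_units L (⟨x, hxq⟩ : q'.primeCompl))
  obtain ⟨_, hst, hff⟩ := faithfullyFlat_atPrime P q' hqP
  have hexP : Ex (List.ofFn (algebraMap R (Localization.AtPrime P) ∘ f)) := by
    refine ex_of_faithfullyFlat (S := L) ?_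
    rw [List.map_ofFn, ← Function.comp_assoc]
    rwa [show (algebraMap (Localization.AtPrime P) L : Localization.AtPrime P → L) ∘ algebraMap R _ = algebraMap R L from
      funext fun x => (IsScalarTower.algebraMap_apply R (Localization.AtPrime P) L x).symm]
  haveI : Module.Flat R (Localization.AtPrime m) := by
    haveI : Module.Flat R (Localization.Away g) := IsLocalization.flat _ (Submonoid.powers g)
    exact Module.Flat.trans R (Localization.Away g) _
  have := KRIdeal.transfer P.primeCompl (Localization.AtPrime P) (Localization.AtPrime m) (fun x => by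
    rw [IsScalarTower.algebraMap_apply R (Localization.Away g) (Localization.AtPrime m)]
    exact IsLocalization.map_units (Localization.AtPrime m)
      (⟨algebraMap R (Localization.Away g) x, x.2⟩ : m.primeCompl)) (l := List.ofFn f) (by rwa [List.map_ofFn])
  rw [List.map_map]
  rwa [show (algebraMap (Localization.Away g) (Localization.AtPrime m) : _ → _) ∘ algebraMap R _ =
    algebraMap R (Localization.AtPrime m) from
      funext fun x => (IsScalarTower.algebraMap_apply R (Localization.Away g) (Localization.AtPrime m) x).symm]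

/-- Koszul regular ideals descend along faithfully flat maps. -/
theorem isKRI_descent {I : Ideal R} (h : LCI.IsKoszulRegularIdeal (I.map (algebraMap R S))) :
    LCI.IsKoszulRegularIdeal I := by
  classical
  have hfg := fg_descent (isKRI_fg h)
  refine (isKRI_iff I).2 fun p hp hle => ?_
  obtain ⟨q, hq, hlies⟩ := Ideal.exists_isPrime_liesOver_of_faithfullyFlat (B := S) p
  have hqp : q.comap (algebraMap R S) = p := hlies.over.symm
  have hIq : I.map (algebraMap R S) ≤ q := Ideal.map_le_iff_le_comap.2 (hqp.symm ▸ hle)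
  obtain ⟨N, F, hF⟩ := Submodule.fg_iff_exists_fin_generating_family.1 hfg
  obtain ⟨h', hh', r, l, hd⟩ := (isKRI_iff _).1 h q hIq
  let L := Localization.AtPrime q
  obtain ⟨hl, hspan⟩ := hd.transfer L (IsLocalization.map_units L (⟨h', hh'⟩ : q.primeCompl))
  have e : Ideal.span (Set.range (algebraMap R L ∘ F)) = Ideal.span (Set.range (algebraMap S L ∘ l)) := by
    rw [← hspan, Ideal.map_map, ← IsScalarTower.algebraMap_eq R S L, Set.range_comp, ← Ideal.map_span]
    exact congrArg _ hF
  have hne : Ideal.span (Set.range (algebraMap S L ∘ l)) ≠ ⊤ := by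
    rw [← hspan]
    refine (IsLocalization.map_algebraMap_ne_top_iff_disjoint q.primeCompl L _).2 ?_
    exact Set.disjoint_left.2 fun x hx hx' => hx (hIq hx')
  obtain ⟨C, hC⟩ := exists_matrix_of_le e.le
  obtain ⟨D, hD⟩ := exists_matrix_of_le e.ge
  have hlocal : Ideal.span (Set.range (algebraMap S L ∘ l)) ≤ IsLocalRing.maximalIdeal L :=
    IsLocalRing.le_maximalIdeal hne
  let π := IsLocalRing.residue L
  have h1 : (D.map π) * (C.map π) = (1 : Matrix (Fin r) (Fin r) (IsLocalRing.ResidueField L)) := by
    rw [← Matrix.map_mul, ← Matrix.map_one π (map_zero π) (map_one π)]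
    ext i j
    exact (Ideal.Quotient.eq).2 (hlocal (mul_sub_one_mem hl hC hD i j))
  obtain ⟨ρ, hρ⟩ := exists_rows _ _ h1
  have hdet : IsUnit (C.submatrix ρ id).det := by
    refine (isUnit_map_iff π _).1 ?_
    rw [RingHom.map_det]
    exact hρ
  let f : Fin r → R := F ∘ ρ
  have hfl : ∀ i, (algebraMap R L ∘ f) i = ∑ j, C.submatrix ρ id i j * (algebraMap S L ∘ l) j := fun i => hC (ρ i)
  have hexf : Ex (List.ofFn (algebraMap R L ∘ f)) := ex_of_matrix _ _ _ hdet hfl hl
  have hfI : Ideal.span (Set.range f) ≤ I := by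
    rw [Ideal.span_le, ← hF]
    rintro _ ⟨i, rfl⟩
    exact Submodule.subset_span ⟨ρ i, rfl⟩
  have hspanf : I.map (algebraMap R L) ≤ (Ideal.span (Set.range f)).map (algebraMap R L) := by
    have hIL : I.map (algebraMap R L) = Ideal.span (Set.range (algebraMap S L ∘ l)) := by
      rw [← hspan, Ideal.map_map, ← IsScalarTower.algebraMap_eq R S L]
    rw [hIL, Ideal.map_span, ← Set.range_comp, Ideal.span_le]
    rintro _ ⟨i, rfl⟩
    have hinv : (algebraMap S L ∘ l) i = ∑ j, (C.submatrix ρ id)⁻¹ i j * (algebraMap R L ∘ f) j := by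
      have h2 : (algebraMap R L ∘ f) = Matrix.mulVec (C.submatrix ρ id) (algebraMap S L ∘ l) := funext hfl
      show _ = Matrix.mulVec (C.submatrix ρ id)⁻¹ (algebraMap R L ∘ f) i
      rw [h2, Matrix.mulVec_mulVec, Matrix.nonsing_inv_mul _ hdet, Matrix.one_mulVec]
    rw [hinv]
    exact Ideal.sum_mem _ fun j _ => Ideal.mul_mem_left _ _ (Ideal.subset_span ⟨j, rfl⟩)
  obtain ⟨g, hg, hgI⟩ := exists_map_eq hfg hfI p q hqp hspanf
  refine at_of_at_away p hg (Localization.Away g) ?_
  -- work over `R_g`
  let R' := Localization.Away g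
  let S' := R' ⊗[R] S
  letI : Algebra S S' := (Algebra.TensorProduct.includeRight : S →ₐ[R] S').toRingHom.toAlgebra
  haveI : Module.Flat S S' := by
    have hcomp : algebraMap S S' = (Algebra.TensorProduct.comm R S R').toRingEquiv.toRingHom.comp
        (algebraMap S (S ⊗[R] R')) := RingHom.ext fun x => (Algebra.TensorProduct.comm_tmul _ _ _).symm
    rw [← RingHom.flat_algebraMap_iff, hcomp]
    haveI : Module.Flat R R' := IsLocalization.flat _ (Submonoid.powers g)
    exact RingHom.Flat.comp (RingHom.flat_algebraMap_iff.2 inferInstance)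
      (RingHom.Flat.of_bijective (Algebra.TensorProduct.comm R S R').toRingEquiv.bijective)
  have hsq : (algebraMap R' S').comp (algebraMap R R') = (algebraMap S S').comp (algebraMap R S) :=
    RingHom.ext fun x => ((Algebra.TensorProduct.includeRight : S →ₐ[R] S').commutes x).symm
  let f' : Fin r → R' := algebraMap R R' ∘ f
  have hI' : I.map (algebraMap R R') = Ideal.span (Set.range f') := by
    rw [hgI, Ideal.map_span, ← Set.range_comp]
  rw [hI']
  have hK : LCI.IsKoszulRegularIdeal ((Ideal.span (Set.range f')).map (algebraMap R' S')) := by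
    rw [← hI', Ideal.map_map, hsq, ← Ideal.map_map]
    exact isKRI_map h
  -- transport the regularity at `q` to a prime of `S'`
  let p' : Ideal R' := p.map (algebraMap R R')
  have hdisj : Disjoint (Submonoid.powers g : Set R) (p : Set R) :=
    Set.disjoint_left.2 fun x hx hxp => by
      obtain ⟨k, rfl⟩ := hx
      exact hg (hp.mem_of_pow_mem k hxp)
  haveI hp' : p'.IsPrime := IsLocalization.isPrime_of_isPrime_disjoint (Submonoid.powers g) R' p hp hdisj
  have hcp' : p'.comap (algebraMap R R') = p :=
    IsLocalization.under_map_of_isPrime_disjoint (Submonoid.powers g) R' hp hdisj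
  obtain ⟨q', hq', hlies'⟩ := Ideal.exists_isPrime_liesOver_of_faithfullyFlat (B := S') p'
  have hqp' : q'.comap (algebraMap R' S') = p' := hlies'.over.symm
  let q₀ : Ideal S := q'.comap (algebraMap S S')
  have hq₀p : q₀.comap (algebraMap R S) = p := by
    rw [Ideal.comap_comap, ← hsq, ← Ideal.comap_comap, hqp', hcp']
  have hIq₀ : I.map (algebraMap R S) ≤ q₀ := Ideal.map_le_iff_le_comap.2 (hq₀p.symm ▸ hle)
  let L₀ := Localization.AtPrime q₀
  have hg₀ : IsUnit (algebraMap R L₀ g) := by
    rw [IsScalarTower.algebraMap_apply R S L₀]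
    exact IsLocalization.map_units L₀ (⟨algebraMap R S g, fun hc => hg (hq₀p.le (Ideal.mem_comap.2 hc))⟩ : q₀.primeCompl)
  haveI : Module.Flat R L₀ := Module.Flat.trans R S L₀
  have hIL₀ : I.map (algebraMap R L₀) = Ideal.span (Set.range (algebraMap R L₀ ∘ f)) := by
    let ψ : R' →+* L₀ := IsLocalization.lift (M := Submonoid.powers g) (isUnit_powers _ hg₀)
    have hψ : ψ.comp (algebraMap R R') = algebraMap R L₀ := IsLocalization.lift_comp _
    rw [Set.range_comp, ← Ideal.map_span, ← hψ, ← Ideal.map_map, ← Ideal.map_map, hgI]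
  obtain ⟨h₀, hh₀, r₀, l₀, hd₀⟩ := (isKRI_iff _).1 h q₀ hIq₀
  obtain ⟨hl₀, hspan₀⟩ := hd₀.transfer L₀ (IsLocalization.map_units L₀ (⟨h₀, hh₀⟩ : q₀.primeCompl))
  rw [Ideal.map_map, ← IsScalarTower.algebraMap_eq R S L₀] at hspan₀
  have hne₀ : Ideal.span (Set.range (algebraMap S L₀ ∘ l₀)) ≠ ⊤ := by
    rw [← hspan₀, IsScalarTower.algebraMap_eq R S L₀, ← Ideal.map_map]
    refine (IsLocalization.map_algebraMap_ne_top_iff_disjoint q₀.primeCompl L₀ _).2 ?_
    exact Set.disjoint_left.2 fun x hx hx' => hx (hIq₀ hx')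
  have hex₀ : Ex (List.ofFn (algebraMap R L₀ ∘ f)) := by
    rcases compare hl₀ (hIL₀.symm.trans hspan₀) hne₀ with ⟨-, ht⟩ | ⟨-, hx, -⟩
    · exfalso
      haveI : Module.Flat R L := Module.Flat.trans R S L
      have hap : relIdeal f ≤ p := fun x hx => by
        rw [← hqp, Ideal.mem_comap]
        have h1 := map_relIdeal_le (L := L) hexf (Ideal.mem_map_of_mem _ hx)
        have h2 : algebraMap R L x ∈ (q.map (algebraMap S L)) := by
          refine (le_trans (Ideal.map_mono hfI) ?_) h1
          rw [IsScalarTower.algebraMap_eq R S L, ← Ideal.map_map]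
          exact Ideal.map_mono hIq
        rw [IsScalarTower.algebraMap_apply R S L, Localization.AtPrime.map_eq_maximalIdeal] at h2
        exact (IsLocalization.AtPrime.to_map_mem_maximal_iff L q (algebraMap R S x)).1 h2
      have h3 : (relIdeal f).map (algebraMap R L₀) ≤ IsLocalRing.maximalIdeal L₀ := by
        refine Ideal.map_le_iff_le_comap.2 fun x hx => ?_
        rw [Ideal.mem_comap, IsScalarTower.algebraMap_apply R S L₀]
        exact (IsLocalization.AtPrime.to_map_mem_maximal_iff L₀ q₀ _).2
          (Ideal.mem_comap.1 (hq₀p.symm ▸ hap hx :))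
      exact (IsLocalRing.maximalIdeal.isMaximal L₀).ne_top (top_le_iff.1 (ht ▸ h3))
    · exact hx
  have hexq' : Ex (List.ofFn (algebraMap R' (Localization.AtPrime q') ∘ f')) := by
    haveI : Module.Flat S (Localization.AtPrime q') := Module.Flat.trans S S' _
    have h4 := KRIdeal.transfer q₀.primeCompl L₀ (Localization.AtPrime q') (fun x => by
      rw [IsScalarTower.algebraMap_apply S S' (Localization.AtPrime q')]
      exact IsLocalization.map_units (Localization.AtPrime q') (⟨algebraMap S S' x, x.2⟩ : q'.primeCompl))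
      (l := List.ofFn (algebraMap R S ∘ f)) (by
        rw [List.map_ofFn, ← Function.comp_assoc]
        rwa [show (algebraMap S L₀ : S → L₀) ∘ algebraMap R S = algebraMap R L₀ from
          funext fun x => (IsScalarTower.algebraMap_apply R S L₀ x).symm])
    rw [List.map_ofFn] at h4
    convert h4 using 2
    funext i
    show algebraMap R' _ (algebraMap R R' (f i)) = algebraMap S _ (algebraMap R S (f i))
    rw [IsScalarTower.algebraMap_apply R' S' (Localization.AtPrime q'),
      IsScalarTower.algebraMap_apply S S' (Localization.AtPrime q')]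
    exact congrArg _ (RingHom.congr_fun hsq (f i))
  obtain ⟨g', hg', hd'⟩ := core f' hK p' q' hqp' hexq'
  exact ⟨g', hg', r, f', hd'⟩

end Descent

end Groth.Agent.KRIdeal
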