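import Groth.Agent.KRIdeal.Scheme
import Mathlib.RingTheory.Smooth.Flat
import Mathlib.RingTheory.RingHom.LocallyStandardSmooth
import Mathlib.RingTheory.RingHom.StandardSmooth
import Mathlib.AlgebraicGeometry.Morphisms.Smooth
import Mathlib.Algebra.MvPolynomial.PDeriv

/-!
# Smooth maps are local complete intersections
-/

set_option autoImplicit false
set_option linter.style.haveILetI false

universe u

open CategoryTheory CategoryTheory.Limits AlgebraicGeometry
open scoped TensorProduct

namespace Groth.Agent.KRIdeal

open KoszulLib (Ex ex_iff)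

section Square

variable {B : Type u} [CommRing B]

theorem ex_translated : ∀ (c : ℕ) (v : Fin c → B),
    Ex (List.ofFn fun i => (MvPolynomial.X i - MvPolynomial.C (v i) : MvPolynomial (Fin c) B))
  | 0, v => ex_of_ofList_eq_top_nil
  | c + 1, v => by
    classical
    let e := MvPolynomial.finSuccEquiv B c
    let T := MvPolynomial (Fin c) B
    let a : T := MvPolynomial.C (v 0)
    let s : Polynomial T := Polynomial.X - Polynomial.C a
    let g : Fin c → Polynomial T := fun i => Polynomial.C (MvPolynomial.X i - MvPolynomial.C (v i.succ))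
    have hs : Ex [s] := ex_singleton fun x y h => (Polynomial.monic_X_sub_C a).isRegular.left h
    have hker : RingHom.ker (Polynomial.evalRingHom a) = Ideal.ofList [s] := by
      rw [Ideal.ofList_singleton]; exact Polynomial.ker_evalRingHom a
    have h1 : Ex ((List.ofFn g).map (Polynomial.evalRingHom a)) := by
      rw [List.map_ofFn]
      convert ex_translated c (fun i => v i.succ) using 2
      funext i; simp [g]
    have h2 := (ex_quot_iff (Polynomial.evalRingHom a) (fun r => ⟨Polynomial.C r, by simp⟩) _ _ hs hker).1 h1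
    let w : Fin (c + 1) → Polynomial T := fun i => e (MvPolynomial.X i - MvPolynomial.C (v i))
    have hw0 : w 0 = s := by
      simp [w, e, s, a, map_sub, MvPolynomial.finSuccEquiv_apply]
    have hws : ∀ i, w i.succ = g i := fun i => by
      simp [w, e, g, map_sub, MvPolynomial.finSuccEquiv_apply]
    have h3 : Ex (List.ofFn w) := by
      have h4 : List.ofFn (Fin.snoc g s : Fin (c + 1) → Polynomial T) = List.ofFn g ++ [s] := by
        rw [List.ofFn_succ', List.concat_eq_append]; simp
      rw [← h4] at h2
      refine ex_of_span_eq h2 (le_antisymm (Ideal.span_le.2 ?_) (Ideal.span_le.2 ?_))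
      · rintro _ ⟨i, rfl⟩
        refine Ideal.subset_span ?_
        induction i using Fin.cases with
        | zero => exact ⟨Fin.last c, by rw [Fin.snoc_last, hw0]⟩
        | succ i => exact ⟨i.castSucc, by rw [Fin.snoc_castSucc, hws]⟩
      · rintro _ ⟨i, rfl⟩
        refine Ideal.subset_span ?_
        induction i using Fin.lastCases with
        | last => exact ⟨0, by rw [Fin.snoc_last, hw0]⟩
        | cast i => exact ⟨i.succ, by rw [Fin.snoc_castSucc, hws]⟩
    have h5 := (show Ex ((List.ofFn w).map e.symm.toRingEquiv.toRingHom) from by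
      letI := e.symm.toRingEquiv.toRingHom.toAlgebra
      haveI : Module.Flat (Polynomial T) (MvPolynomial (Fin (c + 1)) B) := RingHom.Flat.of_bijective e.symm.bijective
      exact Ex.baseChange h3)
    rw [List.map_ofFn] at h5
    convert h5 using 2
    funext i
    exact (e.symm_apply_apply _).symm
where
  ex_of_ofList_eq_top_nil {R : Type u} [CommRing R] {v : Fin 0 → R} : Ex (List.ofFn v) := by
    rw [List.ofFn_zero, ex_iff]
    exact RegSeq.isKoszulRegularSeq_of_isWeaklyRegular (RingTheory.Sequence.IsWeaklyRegular.nil R R)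

theorem ker_aeval_translated {c : ℕ} (v : Fin c → B) :
    RingHom.ker (MvPolynomial.aeval (R := B) v).toRingHom =
      Ideal.span (Set.range fun i => (MvPolynomial.X i - MvPolynomial.C (v i) : MvPolynomial (Fin c) B)) := by
  refine le_antisymm (fun p hp => ?_) (Ideal.span_le.2 (by rintro _ ⟨i, rfl⟩; simp [RingHom.mem_ker]))
  have h : ∀ q : MvPolynomial (Fin c) B, q - MvPolynomial.C (MvPolynomial.aeval v q) ∈
      Ideal.span (Set.range fun i => (MvPolynomial.X i - MvPolynomial.C (v i) : MvPolynomial (Fin c) B)) := by
    intro q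
    induction q using MvPolynomial.induction_on with
    | C r => simp
    | add p q hp hq =>
      convert add_mem hp hq using 1
      simp only [map_add]; ring
    | mul_X p i hp =>
      convert add_mem (Ideal.mul_mem_right (MvPolynomial.X i) _ hp)
        (Ideal.mul_mem_left _ (MvPolynomial.C (MvPolynomial.aeval v p)) (Ideal.subset_span ⟨i, rfl⟩)) using 1
      simp only [map_mul, MvPolynomial.aeval_X]; ring
  have := h p
  rwa [show MvPolynomial.aeval v p = 0 from hp, map_zero, sub_zero] at this

end Square

theorem isLCI_of_square {A B : Type u} [CommRing A] [CommRing B] [Algebra A B] [Module.Flat A B] {c : ℕ}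
    (v : Fin c → B) (hv : Function.Surjective (MvPolynomial.aeval (R := A) v))
    (f : Fin c → MvPolynomial (Fin c) A) (hker : pker A v = Ideal.span (Set.range f))
    (hdet : IsUnit (Matrix.of fun j i => MvPolynomial.aeval v (MvPolynomial.pderiv i (f j))).det) :
    LCI.IsLCI A B := by
  classical
  refine isLCI_of_pker v hv ?_
  rw [hker, ← ofList_ofFn]
  refine isKRI_of_ex (ex_of_forall_maximal fun m hm => ?_)
  rw [List.map_ofFn]
  by_cases hIm : Ideal.span (Set.range f) ≤ m
  swap
  · obtain ⟨x, hx, hxm⟩ := SetLike.not_le_iff_exists.1 hIm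
    refine ex_of_ofList_eq_top (Ideal.eq_top_of_isUnit_mem _ ?_
      (IsLocalization.map_units (Localization.AtPrime m) (⟨x, hxm⟩ : m.primeCompl)))
    rw [ofList_ofFn, Set.range_comp, ← Ideal.map_span]
    exact Ideal.mem_map_of_mem _ hx
  let φ : (MvPolynomial (Fin c) A) →+* (MvPolynomial (Fin c) B) := MvPolynomial.map (algebraMap A B)
  letI : Algebra (MvPolynomial (Fin c) A) (MvPolynomial (Fin c) B) := φ.toAlgebra
  haveI : Module.Flat (MvPolynomial (Fin c) A) (MvPolynomial (Fin c) B) := by
    have hcomp : φ = ((Algebra.TensorProduct.comm A (MvPolynomial (Fin c) A) B).toRingEquiv.trans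
        (MvPolynomial.algebraTensorAlgEquiv A (σ := Fin c) B).toRingEquiv).toRingHom.comp
          (algebraMap (MvPolynomial (Fin c) A) ((MvPolynomial (Fin c) A) ⊗[A] B)) :=
      MvPolynomial.ringHom_ext (fun r => by simp [φ]) (fun i => by simp [φ])
    rw [← RingHom.flat_algebraMap_iff, RingHom.algebraMap_toAlgebra, hcomp]
    exact RingHom.Flat.comp (RingHom.flat_algebraMap_iff.2 inferInstance)
      (RingHom.Flat.of_bijective (RingEquiv.bijective _))
  let ev : (MvPolynomial (Fin c) B) →+* B := (MvPolynomial.aeval (R := B) v).toRingHom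
  have hev : ev.comp φ = (MvPolynomial.aeval (R := A) v).toRingHom :=
    MvPolynomial.ringHom_ext (fun r => by simp [ev, φ]) (fun i => by simp [ev, φ])
  let t : Fin c → (MvPolynomial (Fin c) B) := fun i => MvPolynomial.X i - MvPolynomial.C (v i)
  have hfK : Ideal.span (Set.range (φ ∘ f)) ≤ Ideal.span (Set.range t) := by
    rw [← ker_aeval_translated v, Ideal.span_le]
    rintro _ ⟨j, rfl⟩
    show ev (φ (f j)) = 0
    rw [← RingHom.comp_apply, hev]
    have hmem : f j ∈ pker A v := hker.symm ▸ Ideal.subset_span (Set.mem_range_self j)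
    exact RingHom.mem_ker.1 hmem
  obtain ⟨M, hM⟩ := exists_matrix_of_le hfK
  have hMd : ∀ j i, ev (M j i) = MvPolynomial.aeval v (MvPolynomial.pderiv i (f j)) := by
    intro j i
    have h1 : MvPolynomial.aeval v (MvPolynomial.pderiv i (f j)) = ev (MvPolynomial.pderiv i (φ (f j))) := by
      rw [MvPolynomial.pderiv_map, ← RingHom.comp_apply, hev]
      rfl
    have ht : ∀ k, ev (t k) = 0 := fun k => by simp [ev, t]
    have hd : ∀ k, ev (MvPolynomial.pderiv i (t k)) = if k = i then 1 else 0 := fun k => by
      by_cases hki : k = i <;> simp [ev, t, hki, MvPolynomial.pderiv_X, Pi.single_apply, eq_comm]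
    rw [h1, show φ (f j) = ∑ k, M j k * t k from hM j, map_sum, map_sum]
    simp only [MvPolynomial.pderiv_mul, map_add, map_mul, ht, hd, mul_zero, zero_add, mul_ite, mul_one,
      Finset.sum_ite_eq', Finset.mem_univ, if_true]
  have hker' : RingHom.ker (MvPolynomial.aeval (R := A) v).toRingHom ≤ m := le_of_eq_of_le hker hIm
  haveI hp : (m.map (MvPolynomial.aeval (R := A) v).toRingHom).IsPrime :=
    Ideal.map_isPrime_of_surjective hv hker'
  let Q : Ideal (MvPolynomial (Fin c) B) := (m.map (MvPolynomial.aeval (R := A) v).toRingHom).comap ev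
  have hQm : Q.comap (algebraMap (MvPolynomial (Fin c) A) (MvPolynomial (Fin c) B)) = m := by
    rw [Ideal.comap_comap, RingHom.algebraMap_toAlgebra, hev]
    rw [Ideal.comap_map_of_surjective' (MvPolynomial.aeval (R := A) v).toRingHom hv, sup_eq_left]
    exact hker'
  let L := Localization.AtPrime Q
  have hu : IsUnit (M.map (algebraMap (MvPolynomial (Fin c) B) L)).det := by
    rw [show (M.map (algebraMap (MvPolynomial (Fin c) B) L)).det = algebraMap (MvPolynomial (Fin c) B) L M.det from ((algebraMap (MvPolynomial (Fin c) B) L).map_det M).symm]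
    refine IsLocalization.map_units L (⟨M.det, fun hc => hp.ne_top (Ideal.eq_top_of_isUnit_mem _ hc ?_)⟩ : Q.primeCompl)
    rw [RingHom.map_det]
    convert hdet using 2
    ext j i
    exact hMd j i
  have hex : Ex (List.ofFn (algebraMap (MvPolynomial (Fin c) B) L ∘ t)) := by
    rw [← List.map_ofFn]
    exact Ex.baseChange (ex_translated c v)
  have hexf : Ex (List.ofFn (algebraMap (MvPolynomial (Fin c) A) L ∘ f)) :=
    ex_of_matrix _ _ (M.map (algebraMap (MvPolynomial (Fin c) B) L)) hu (fun j => by
      show algebraMap (MvPolynomial (Fin c) A) L (f j) = _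
      rw [IsScalarTower.algebraMap_apply (MvPolynomial (Fin c) A) (MvPolynomial (Fin c) B) L, show algebraMap (MvPolynomial (Fin c) A) (MvPolynomial (Fin c) B) (f j) = ∑ k, M j k * t k from hM j, map_sum]
      simp) hex
  obtain ⟨_, hst, hff⟩ := faithfullyFlat_atPrime' m Q hQm
  refine ex_of_faithfullyFlat (S := L) ?_
  rw [List.map_ofFn, ← Function.comp_assoc]
  rwa [show (algebraMap (Localization.AtPrime m) L : _ → L) ∘ algebraMap (MvPolynomial (Fin c) A) _ = algebraMap (MvPolynomial (Fin c) A) L from
    funext fun x => (IsScalarTower.algebraMap_apply (MvPolynomial (Fin c) A) (Localization.AtPrime m) L x).symm]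
where
  faithfullyFlat_atPrime' {R S : Type u} [CommRing R] [CommRing S] [Algebra R S] [Module.Flat R S]
      (p : Ideal R) [p.IsPrime] (q : Ideal S) [q.IsPrime] (hq : q.comap (algebraMap R S) = p) :
      ∃ _ : Algebra (Localization.AtPrime p) (Localization.AtPrime q),
        IsScalarTower R (Localization.AtPrime p) (Localization.AtPrime q) ∧
        Module.FaithfullyFlat (Localization.AtPrime p) (Localization.AtPrime q) := by
    letI : Algebra (Localization.AtPrime p) (Localization.AtPrime q) :=
      (Localization.localRingHom p q (algebraMap R S) hq.symm).toAlgebra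
    haveI : IsScalarTower R (Localization.AtPrime p) (Localization.AtPrime q) := IsScalarTower.of_algebraMap_eq fun x => by
      show _ = Localization.localRingHom p q (algebraMap R S) hq.symm _
      rw [Localization.localRingHom_to_map, IsScalarTower.algebraMap_apply R S (Localization.AtPrime q)]
    haveI : Module.Flat R (Localization.AtPrime q) := Module.Flat.trans R S _
    haveI : Module.Flat (Localization.AtPrime p) (Localization.AtPrime q) :=
      (Module.flat_iff_of_isLocalization (Localization.AtPrime p) p.primeCompl _).2 inferInstance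
    haveI : IsLocalHom (algebraMap (Localization.AtPrime p) (Localization.AtPrime q)) :=
      Localization.isLocalHom_localRingHom p q (algebraMap R S) hq.symm
    exact ⟨inferInstance, inferInstance, Module.FaithfullyFlat.of_flat_of_isLocalHom⟩

theorem isLCI_of_etale (A B : Type u) [CommRing A] [CommRing B] [Algebra A B] [Algebra.Etale A B] :
    LCI.IsLCI A B := by
  classical
  obtain ⟨ι, σ, _, _, P, hdim⟩ :=
    (Algebra.Etale.iff_isStandardSmoothOfRelativeDimension_zero.1 ‹Algebra.Etale A B›).out
  haveI := Fintype.ofFinite σ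
  have hbij : Function.Bijective P.map :=
    P.map_inj.bijective_of_nat_card_le (Nat.sub_eq_zero_iff_le.1 hdim)
  let c := Nat.card σ
  let e : Fin c ≃ σ := (Finite.equivFin σ).symm
  let em : Fin c ≃ ι := e.trans (Equiv.ofBijective P.map hbij)
  let v : Fin c → B := P.val ∘ em
  let f : Fin c → MvPolynomial (Fin c) A := fun j => MvPolynomial.rename em.symm (P.relation (e j))
  have hren : ∀ x : MvPolynomial ι A, MvPolynomial.aeval (R := A) v (MvPolynomial.rename em.symm x) = MvPolynomial.aeval P.val x := fun x => by
    rw [MvPolynomial.aeval_rename]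
    congr 2
    funext i
    simp [v]
  refine isLCI_of_square v ?_ f ?_ ?_
  · intro b
    exact ⟨MvPolynomial.rename em.symm (P.σ b), (hren _).trans (P.aeval_val_σ b)⟩
  · refine le_antisymm (fun x hx => ?_) (Ideal.span_le.2 ?_)
    · let r := MvPolynomial.rename (R := A) em
      have hx' : r x ∈ P.ker := by
        rw [P.ker_eq_ker_aeval_val, RingHom.mem_ker]
        refine Eq.trans ?_ hx
        show MvPolynomial.aeval P.val (MvPolynomial.rename em x) = MvPolynomial.aeval v x
        rw [MvPolynomial.aeval_rename]
      rw [← P.span_range_relation_eq_ker] at hx'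
      have h2 := Ideal.mem_map_of_mem (MvPolynomial.rename (R := A) em.symm) hx'
      rw [Ideal.map_span, ← Set.range_comp] at h2
      have h3 : MvPolynomial.rename em.symm (r x) = x := by
        rw [MvPolynomial.rename_rename, Equiv.symm_comp_self, MvPolynomial.rename_id]; rfl
      rw [h3] at h2
      refine Ideal.span_mono ?_ h2
      rintro _ ⟨j, rfl⟩
      exact ⟨e.symm j, by simp [f]⟩
    · rintro _ ⟨j, rfl⟩
      show MvPolynomial.aeval v (MvPolynomial.rename em.symm (P.relation (e j))) = 0
      rw [hren]
      exact P.aeval_val_relation (e j)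
  · have hJ : IsUnit (P.jacobiMatrix.map (MvPolynomial.aeval P.val)).det := by
      have := P.jacobian_isUnit
      rw [P.jacobian_eq_jacobiMatrix_det, P.algebraMap_eq] at this
      rwa [← AlgHom.mapMatrix_apply, ← AlgHom.map_det]
    convert hJ using 1
    rw [← Matrix.det_submatrix_equiv_self e (P.jacobiMatrix.map (MvPolynomial.aeval P.val)), ← Matrix.det_transpose]
    congr 1
    ext i j
    simp only [Matrix.transpose_apply, Matrix.of_apply, Matrix.submatrix_apply, Matrix.map_apply,
      P.jacobiMatrix_apply, f]
    rw [show i = em.symm (em i) from (em.symm_apply_apply i).symm, MvPolynomial.pderiv_rename em.symm.injective, hren,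
      Equiv.symm_apply_apply]
    rfl

theorem isLCI_mvPolynomial (A : Type u) [CommRing A] (n : ℕ) : LCI.IsLCI A (MvPolynomial (Fin n) A) := by
  refine ⟨inferInstance, n, AlgHom.id A _, Function.surjective_id, ?_⟩
  have h : RingHom.ker (AlgHom.id A (MvPolynomial (Fin n) A)).toRingHom = Ideal.ofList [] := by
    rw [Ideal.ofList_nil]
    ext x; simp [RingHom.mem_ker]
  rw [h]
  exact isKRI_of_ex ((ex_iff _).2 (RegSeq.isKoszulRegularSeq_of_isWeaklyRegular
    (RingTheory.Sequence.IsWeaklyRegular.nil _ _)))

theorem ringLCI_of_smooth {R S : Type u} [CommRing R] [CommRing S] {f : R →+* S} (hf : f.Smooth) : RingLCI f := by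
  obtain ⟨s, hs, h⟩ := RingHom.smooth_iff_locally_isStandardSmooth.1 hf
  refine ofLocalizationSpanTarget f s hs fun t => ?_
  obtain ⟨n, g, hg, het⟩ := (h t.1 t.2).exists_etale_mvPolynomial
  rw [← hg]
  refine ringLCI_comp ?_ ?_
  · exact ringLCI_algebraMap.2 (isLCI_mvPolynomial R n)
  · letI := g.toAlgebra
    haveI : Algebra.Etale (MvPolynomial (Fin n) R) (Localization.Away (t : S)) := het
    exact isLCI_of_etale _ _

theorem schLCI_of_smooth {X Y : Scheme.{u}} (f : X ⟶ Y) [Smooth f] : SchLCI f := by
  rw [SchLCI, affineLocally_iff_affineOpens_le]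
  intro U V e
  exact ringLCI_of_smooth (HasRingHomProperty.appLE (P := @Smooth) f ‹_› U V e)

end Groth.Agent.KRIdeal
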