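import Groth.Agent.KoszulLib.Kappa
import Groth.Agent.RegSeq.Append
import Mathlib.RingTheory.Flat.FaithfullyFlat.Basic
import Mathlib.RingTheory.Localization.BaseChange
import Mathlib.RingTheory.Localization.AtPrime.Basic

/-!
# Koszul regular sequences: change of generators, descent, local nature, cancellation
-/

set_option autoImplicit false
set_option linter.style.haveILetI false

universe u

open scoped TensorProduct
open CliffordAlgebra (contractLeft)

namespace Groth.Agent.KRIdeal

open KoszulLib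

variable {R : Type u} [CommRing R]

theorem ex_of_faithfullyFlat {S : Type u} [CommRing S] [Algebra R S] [Module.FaithfullyFlat R S] {l : List R}
    (h : Ex (l.map (algebraMap R S))) : Ex l := by
  intro i j k hij hjk hj
  obtain ⟨θ, hθ⟩ := exists_baseChange (S := S) l
  refine (Module.FaithfullyFlat.lTensor_exact_iff_exact R S (dL l i j) (dL l j k)).1 fun y => ?_
  constructor
  · intro hy
    have hy' : dL (l.map (algebraMap R S)) j k (θ j y) = 0 := by
      rw [← hθ j k hjk, show (dL l j k).baseChange S y = 0 from hy, map_zero]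
    obtain ⟨w, hw⟩ := (h i j k hij hjk hj (θ j y)).1 hy'
    obtain ⟨v, rfl⟩ := (θ i).surjective w
    exact ⟨v, (θ j).injective ((hθ i j hij v).trans hw)⟩
  · rintro ⟨w, rfl⟩
    refine (θ k).map_eq_zero_iff.1 ?_
    show θ k ((dL l j k).baseChange S ((dL l i j).baseChange S w)) = 0
    rw [hθ j k hjk, hθ i j hij, dL_dL]

/-- Exactness of a Koszul complex is local. -/
theorem ex_of_forall_maximal {l : List R}
    (h : ∀ (m : Ideal R) [m.IsMaximal], Ex (l.map (algebraMap R (Localization.AtPrime m)))) : Ex l := by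
  intro i j k hij hjk hj x
  refine ⟨fun hx => ?_, fun ⟨w, hw⟩ => hw ▸ dL_dL l i j k w⟩
  let J : Ideal R := (LinearMap.range (dL l i j)).comap (LinearMap.toSpanSingleton R _ x)
  by_contra hne
  have hJ : J ≠ ⊤ := fun e => hne (by
    have h1 : (1 : R) • x ∈ LinearMap.range (dL l i j) := (e ▸ Submodule.mem_top : (1 : R) ∈ J)
    rw [one_smul] at h1
    exact h1)
  obtain ⟨m, hm, hJm⟩ := J.exists_le_maximal hJ
  obtain ⟨θ, hθ⟩ := exists_baseChange (S := Localization.AtPrime m) l
  let P := Localization.AtPrime m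
  have h0 : dL (l.map (algebraMap R P)) j k (θ j ((1 : P) ⊗ₜ[R] x)) = 0 := by
    rw [← hθ j k hjk, LinearMap.baseChange_tmul, hx, TensorProduct.tmul_zero, map_zero]
  obtain ⟨w, hw⟩ := (h m i j k hij hjk hj _).1 h0
  obtain ⟨v, rfl⟩ := (θ i).surjective w
  have hv := (θ j).injective ((hθ i j hij v).trans hw)
  obtain ⟨⟨v₀, s⟩, hs⟩ := IsLocalizedModule.surj m.primeCompl (TensorProduct.mk R P (X l i) 1) v
  change (s : R) • v = (1 : P) ⊗ₜ[R] v₀ at hs
  have he : TensorProduct.mk R P (X l j) 1 (dL l i j v₀) = TensorProduct.mk R P (X l j) 1 ((s : R) • x) := by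
    show (1 : P) ⊗ₜ[R] dL l i j v₀ = (1 : P) ⊗ₜ[R] ((s : R) • x)
    rw [← LinearMap.baseChange_tmul, ← hs, LinearMap.map_smul_of_tower, hv, ← TensorProduct.tmul_smul]
  obtain ⟨c, hc⟩ := IsLocalizedModule.exists_of_eq (S := m.primeCompl) he
  have hmem : (c : R) * s ∈ J := ⟨(c : R) • v₀, by
    rw [map_smul]
    show (c : R) • dL l i j v₀ = ((c : R) * s) • x
    rw [mul_smul]
    exact hc⟩
  exact (m.primeCompl.mul_mem c.2 s.2) (hJm hmem)

section Exterior

variable {M : Type u} [AddCommGroup M] [Module R M]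

theorem contract_kappa_eq_zero (ε : Module.Dual R M) : ∀ (ws : List (R × M)), (∀ p ∈ ws, ε p.2 = 0) →
    ∀ i x, contractLeft (Q := (0 : QuadraticForm R M)) ε (kappa ws i x) = 0
  | [], _, i, x => by
    rcases eq_or_ne i 0 with rfl | hi
    · rw [kappa_zero]
      exact CliffordAlgebra.contractLeft_algebraMap (Q := (0 : QuadraticForm R M)) ε _
    · haveI : Subsingleton (X (([] : List (R × M)).map Prod.fst) i) := subsingleton_nil (R := R) hi
      rw [Subsingleton.elim x 0]
      simp
  | (f, w) :: ws, hε, i, x => by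
    change X (f :: ws.map Prod.fst) i at x
    show contractLeft (Q := (0 : QuadraticForm R M)) ε (kappa ((f, w) :: ws) i x) = 0
    rw [kappa_cons f w ws i (i + 1) rfl, map_add,
      contract_kappa_eq_zero ε ws (fun p hp => hε p (List.mem_cons_of_mem _ hp)) i]
    change contractLeft (Q := (0 : QuadraticForm R M)) ε (CliffordAlgebra.ι _ w * _) + 0 = 0
    rw [CliffordAlgebra.contractLeft_ι_mul, hε (f, w) List.mem_cons_self,
      contract_kappa_eq_zero ε ws (fun p hp => hε p (List.mem_cons_of_mem _ hp)) (i + 1)]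
    simp

/-- The vectors of a list have a dual family. -/
def DualFamily : List (R × M) → Prop
  | [] => True
  | (_, w) :: ws => (∃ ε : Module.Dual R M, ε w = 1 ∧ ∀ p ∈ ws, ε p.2 = 0) ∧ DualFamily ws

theorem kappa_injective : ∀ (ws : List (R × M)), DualFamily ws → ∀ i, Function.Injective (kappa ws i)
  | [], _, i => by
    rcases eq_or_ne i 0 with rfl | hi
    · intro x y hxy
      rw [kappa_zero, kappa_zero] at hxy
      exact (e0 _).injective (((ExteriorAlgebra.algebraMap_inj M _ _).1 hxy))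
    · haveI : Subsingleton (X (([] : List (R × M)).map Prod.fst) i) := subsingleton_nil (R := R) hi
      exact fun x y _ => Subsingleton.elim x y
  | (f, w) :: ws, ⟨⟨ε, hw, hε⟩, hd⟩, i => by
    refine (injective_iff_map_eq_zero _).2 fun x hx => ?_
    change X (f :: ws.map Prod.fst) i at x
    change kappa ((f, w) :: ws) i x = 0 at hx
    rw [kappa_cons f w ws i (i + 1) rfl] at hx
    have hc := congrArg (contractLeft (Q := (0 : QuadraticForm R M)) ε) hx
    change contractLeft (Q := (0 : QuadraticForm R M)) ε (CliffordAlgebra.ι _ w * _ + _) = _ at hc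
    rw [map_add, CliffordAlgebra.contractLeft_ι_mul, hw, contract_kappa_eq_zero ε ws hε,
      contract_kappa_eq_zero ε ws hε, map_zero] at hc
    simp only [one_smul, mul_zero, sub_zero, add_zero] at hc
    rw [hc, mul_zero, zero_add] at hx
    refine ext_pair f (ws.map Prod.fst) rfl ?_ ?_
    · rw [map_zero]; exact (injective_iff_map_eq_zero _).1 (kappa_injective ws hd (i + 1)) _ hc
    · rw [map_zero]; exact (injective_iff_map_eq_zero _).1 (kappa_injective ws hd i) _ hx

theorem mem_range_kappa_mul : ∀ (ws : List (R × M)) (w : M), w ∈ Submodule.span R {m | m ∈ ws.map Prod.snd} →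
    ∀ i y, y ∈ LinearMap.range (kappa ws i) →
      ExteriorAlgebra.ι R w * y ∈ LinearMap.range (kappa ws (i - 1))
  | [], w, hw, i, y, _ => by
    simp only [List.map_nil, List.not_mem_nil, Set.setOf_false, Submodule.span_empty, Submodule.mem_bot] at hw
    simp [hw]
  | (f, v) :: ws, w, hw, i, y, ⟨x, hx⟩ => by
    change X (f :: ws.map Prod.fst) i at x
    change kappa ((f, v) :: ws) i x = y at hx
    rw [kappa_cons f v ws i (i + 1) rfl] at hx
    have hsp : {m | m ∈ ((f, v) :: ws).map Prod.snd} = insert v {m | m ∈ ws.map Prod.snd} := by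
      ext m; simp
    rw [hsp, Submodule.mem_span_insert] at hw
    obtain ⟨c, z, hz, rfl⟩ := hw
    obtain ⟨b, hb⟩ := mem_range_kappa_mul ws z hz i (kappa ws i (sndL f (ws.map Prod.fst) i x)) ⟨_, rfl⟩
    have ha' : ExteriorAlgebra.ι R z * kappa ws (i + 1) (fstL f (ws.map Prod.fst) i (i + 1) rfl x) ∈
        LinearMap.range (kappa ws i) := by
      have := mem_range_kappa_mul ws z hz (i + 1) _ ⟨fstL f (ws.map Prod.fst) i (i + 1) rfl x, rfl⟩
      rwa [show i + 1 - 1 = i by ring] at this
    obtain ⟨a', ha'⟩ := ha'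
    refine ⟨inlL f (ws.map Prod.fst) (i - 1) i (by ring) (c • sndL f (ws.map Prod.fst) i x - a') +
      inrL f (ws.map Prod.fst) (i - 1) b, ?_⟩
    show kappa ((f, v) :: ws) (i - 1) _ = _
    rw [kappa_cons f v ws (i - 1) i (by ring), map_add, fst_inl, fst_inr, add_zero,
      map_add (sndL f (ws.map Prod.fst) (i - 1)), snd_inl, snd_inr, zero_add, hb, ← hx,
      map_sub, map_smul, ha', map_add (ExteriorAlgebra.ι R), map_smul (ExteriorAlgebra.ι R)]
    simp only [mul_add, add_mul, mul_sub, ← mul_assoc, smul_mul_assoc, mul_smul_comm,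
      ExteriorAlgebra.ι_sq_zero, zero_mul, smul_zero, zero_add]
    rw [eq_neg_of_add_eq_zero_left (ExteriorAlgebra.ι_add_mul_swap v z), neg_mul]
    abel

theorem range_kappa_le (ws : List (R × M)) : ∀ (ws' : List (R × M)),
    (∀ p ∈ ws', p.2 ∈ Submodule.span R {m | m ∈ ws.map Prod.snd}) →
    ∀ i, LinearMap.range (kappa ws' i) ≤ LinearMap.range (kappa ws i)
  | [], _, i => by
    rintro _ ⟨x, rfl⟩
    rcases eq_or_ne i 0 with rfl | hi
    · rw [kappa_zero]
      exact ⟨(e0 _).symm (e0 _ x), by rw [kappa_zero, LinearEquiv.apply_symm_apply]⟩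
    · haveI : Subsingleton (X (([] : List (R × M)).map Prod.fst) i) := subsingleton_nil (R := R) hi
      rw [Subsingleton.elim x 0, map_zero]
      exact zero_mem _
  | (f, v) :: ws', h, i => by
    rintro _ ⟨x, rfl⟩
    change X (f :: ws'.map Prod.fst) i at x
    show kappa ((f, v) :: ws') i x ∈ _
    rw [kappa_cons f v ws' i (i + 1) rfl]
    have ih := range_kappa_le ws ws' fun p hp => h p (List.mem_cons_of_mem _ hp)
    have h1 := mem_range_kappa_mul ws v (h (f, v) List.mem_cons_self) (i + 1)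
      (kappa ws' (i + 1) (fstL f (ws'.map Prod.fst) i (i + 1) rfl x)) (ih (i + 1) ⟨_, rfl⟩)
    rw [show i + 1 - 1 = i by ring] at h1
    exact add_mem h1 (ih i ⟨_, rfl⟩)

/-- Two sequences read off bases of one module by one functional have the same Koszul complex. -/
theorem ex_of_bases (δ : Module.Dual R M) (ws ws' : List (R × M)) (hδ : ∀ p ∈ ws, δ p.2 = p.1)
    (hδ' : ∀ p ∈ ws', δ p.2 = p.1) (hd : DualFamily ws) (hd' : DualFamily ws')
    (h : ∀ p ∈ ws', p.2 ∈ Submodule.span R {m | m ∈ ws.map Prod.snd})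
    (h' : ∀ p ∈ ws, p.2 ∈ Submodule.span R {m | m ∈ ws'.map Prod.snd})
    (hex : Ex (ws.map Prod.fst)) : Ex (ws'.map Prod.fst) := by
  intro i j k hij hjk hj y
  refine ⟨fun hy => ?_, fun ⟨w, hw⟩ => hw ▸ dL_dL _ i j k w⟩
  obtain ⟨x, hx⟩ := range_kappa_le ws ws' h j ⟨y, rfl⟩
  have hx0 : dL (ws.map Prod.fst) j k x = 0 := by
    refine kappa_injective ws hd k ?_
    rw [map_zero, ← contract_kappa δ ws hδ j k hjk, hx, contract_kappa δ ws' hδ' j k hjk, hy, map_zero]
  obtain ⟨z, hz⟩ := (hex i j k hij hjk hj x).1 hx0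
  obtain ⟨z', hz'⟩ := range_kappa_le ws' ws h' i ⟨z, rfl⟩
  refine ⟨z', kappa_injective ws' hd' j ?_⟩
  rw [← contract_kappa δ ws' hδ' i j hij, hz', contract_kappa δ ws hδ i j hij, hz, hx]

end Exterior

theorem dualFamily_ofFn : ∀ {n : ℕ} {M : Type u} [AddCommGroup M] [Module R M] (f : Fin n → R)
    (v : Fin n → M) (ε : Fin n → Module.Dual R M), (∀ i j, ε i (v j) = if i = j then 1 else 0) →
    DualFamily (List.ofFn fun i => (f i, v i)) := by
  intro n
  induction n with
  | zero => intros; simp [DualFamily]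
  | succ n ih =>
    intro M _ _ f v ε h
    rw [List.ofFn_succ]
    refine ⟨⟨ε 0, by simp [h], fun p hp => ?_⟩, ih (fun i => f i.succ) (fun i => v i.succ)
      (fun i => ε i.succ) fun i j => by simp [h]⟩
    obtain ⟨i, rfl⟩ := List.mem_ofFn.1 hp
    simp [h, Fin.succ_ne_zero, (Fin.succ_ne_zero i).symm]

/-- An invertible change of generators preserves Koszul regularity. -/
theorem ex_of_matrix {n : ℕ} (f g : Fin n → R) (C : Matrix (Fin n) (Fin n) R) (hC : IsUnit C.det)
    (hg : ∀ i, g i = ∑ j, C i j * f j) (hf : Ex (List.ofFn f)) : Ex (List.ofFn g) := by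
  classical
  let V := Fin n → R
  let δ : Module.Dual R V := ∑ j, f j • LinearMap.proj j
  let ws : List (R × V) := List.ofFn fun i => (f i, Pi.single i 1)
  let ws' : List (R × V) := List.ofFn fun i => (g i, C i)
  have e1 : ws.map Prod.fst = List.ofFn f := by simp [ws, List.map_ofFn, Function.comp_def]
  have e2 : ws'.map Prod.fst = List.ofFn g := by simp [ws', List.map_ofFn, Function.comp_def]
  have hδ : ∀ v, δ v = ∑ j, v j * f j := fun v => by
    simp only [δ, LinearMap.sum_apply, LinearMap.smul_apply, smul_eq_mul]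
    exact Finset.sum_congr rfl fun j _ => mul_comm _ _
  have key : ∀ v : V, v = ∑ i, (Matrix.vecMul v C⁻¹) i • (C i : V) := fun v => by
    funext k
    have h1 : Matrix.vecMul (Matrix.vecMul v C⁻¹) C = v := by
      rw [Matrix.vecMul_vecMul, Matrix.nonsing_inv_mul C hC, Matrix.vecMul_one]
    conv_lhs => rw [← h1]
    simp [Matrix.vecMul, dotProduct]
  rw [← e2]
  refine ex_of_bases δ ws ws' ?_ ?_ ?_ ?_ ?_ ?_ (e1 ▸ hf)
  · intro p hp
    obtain ⟨i, rfl⟩ := List.mem_ofFn.1 hp
    simp [hδ, Pi.single_apply]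
  · intro p hp
    obtain ⟨i, rfl⟩ := List.mem_ofFn.1 hp
    simp [hδ, hg]
  · exact dualFamily_ofFn f _ (fun i => LinearMap.proj i) fun i j => by
      show (Pi.single j 1 : V) i = _
      simp [Pi.single_apply, eq_comm]
  · refine dualFamily_ofFn g _ (fun i => (LinearMap.proj i).comp (Matrix.vecMulLinear C⁻¹)) fun i j => ?_
    show Matrix.vecMul (C j) C⁻¹ i = _
    have : Matrix.vecMul (C j) C⁻¹ i = (C * C⁻¹) j i := rfl
    rw [this, Matrix.mul_nonsing_inv C hC, Matrix.one_apply]
    simp [eq_comm]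
  · intro p hp
    obtain ⟨i, rfl⟩ := List.mem_ofFn.1 hp
    show C i ∈ _
    rw [show (C i : V) = ∑ j, C i j • (Pi.single j 1 : V) by funext k; simp [Pi.single_apply]]
    exact Submodule.sum_mem _ fun j _ => Submodule.smul_mem _ _
      (Submodule.subset_span (show _ ∈ _ from List.mem_map.2 ⟨_, List.mem_ofFn.2 ⟨j, rfl⟩, rfl⟩))
  · intro p hp
    obtain ⟨i, rfl⟩ := List.mem_ofFn.1 hp
    show (Pi.single i 1 : V) ∈ _
    rw [key (Pi.single i 1)]
    refine Submodule.sum_mem _ fun j _ => Submodule.smul_mem _ _ ?_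
    refine Submodule.subset_span ?_
    show (C j : V) ∈ ws'.map Prod.snd
    exact List.mem_map.2 ⟨(g j, C j), List.mem_ofFn.2 ⟨j, rfl⟩, rfl⟩

/-- A sequence generating the unit ideal is Koszul regular. -/
theorem ex_of_ofList_eq_top {l : List R} (h : Ideal.ofList l = ⊤) : Ex l := by
  classical
  obtain ⟨n, f, rfl⟩ : ∃ (n : ℕ) (f : Fin n → R), l = List.ofFn f :=
    ⟨_, l.get, (List.ofFn_get l).symm⟩
  let V := Fin n → R
  let δ : Module.Dual R V := ∑ j, f j • LinearMap.proj j
  let ws : List (R × V) := List.ofFn fun i => (f i, Pi.single i 1)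
  have e1 : ws.map Prod.fst = List.ofFn f := by simp [ws, List.map_ofFn, Function.comp_def]
  have hδ : ∀ p ∈ ws, δ p.2 = p.1 := fun p hp => by
    obtain ⟨i, rfl⟩ := List.mem_ofFn.1 hp
    show (∑ j, f j • LinearMap.proj j : Module.Dual R V) (Pi.single i 1) = f i
    simp only [LinearMap.sum_apply, LinearMap.smul_apply, smul_eq_mul]
    show ∑ j, f j * (Pi.single i 1 : V) j = f i
    simp [Pi.single_apply]
  have h1 : (1 : R) ∈ Ideal.span (Set.range f) := by
    have : (1 : R) ∈ Ideal.ofList (List.ofFn f) := h ▸ Submodule.mem_top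
    rwa [Ideal.ofList, show {r | r ∈ List.ofFn f} = Set.range f from
      Set.ext fun x => List.mem_ofFn] at this
  obtain ⟨c, hc⟩ := Ideal.mem_span_range_iff_exists_fun.1 h1
  rw [← e1]
  intro i j k hij hjk hj y
  refine ⟨fun hy => ?_, fun ⟨w, hw⟩ => hw ▸ dL_dL _ i j k w⟩
  have hc' : δ c = 1 := by
    rw [← hc]
    simp only [δ, LinearMap.sum_apply, LinearMap.smul_apply, smul_eq_mul]
    exact Finset.sum_congr rfl fun j _ => mul_comm _ _
  have hd : DualFamily ws := dualFamily_ofFn f _ (fun i => LinearMap.proj i) fun i j => by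
    show (Pi.single j 1 : V) i = _
    simp [Pi.single_apply, eq_comm]
  have hspan : c ∈ Submodule.span R {m | m ∈ ws.map Prod.snd} := by
    rw [show c = ∑ j, c j • (Pi.single j 1 : V) by funext k; simp [Pi.single_apply]]
    exact Submodule.sum_mem _ fun j _ => Submodule.smul_mem _ _
      (Submodule.subset_span (show _ ∈ _ from List.mem_map.2 ⟨_, List.mem_ofFn.2 ⟨j, rfl⟩, rfl⟩))
  obtain ⟨x, hx⟩ := mem_range_kappa_mul ws c hspan j _ ⟨y, rfl⟩
  obtain rfl : i = j - 1 := by omega
  refine ⟨x, kappa_injective ws hd j ?_⟩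
  rw [← contract_kappa δ ws hδ (j - 1) j (by ring), hx]
  change contractLeft (Q := (0 : QuadraticForm R V)) δ (CliffordAlgebra.ι _ c * _) = _
  rw [CliffordAlgebra.contractLeft_ι_mul, hc', contract_kappa δ ws hδ j k hjk, hy, map_zero]
  simp

/-- Cancelling a Koszul regular tail. -/
theorem ex_of_append {f g : List R} (hf : Ex f) (h : Ex (g ++ f)) :
    Ex (g.map (Ideal.Quotient.mk (Ideal.ofList f))) := by
  obtain ⟨E, hsur, hcomm, hker⟩ := RegSeq.exists_augmentation f hf g
  intro i j k hij hjk hj y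
  refine ⟨fun hy => ?_, fun ⟨w, hw⟩ => hw ▸ dL_dL _ i j k w⟩
  obtain ⟨x, rfl⟩ := hsur j y
  obtain ⟨w, hw, hdw⟩ := hker j k (k + 1) hjk rfl (dL _ j k x)
    (by rw [hcomm j k hjk, hy]) (dL_dL _ j k (k + 1) x)
  obtain ⟨v, hv⟩ := (h i j k hij hjk hj (x - w)).1 (by rw [map_sub, hdw, sub_self])
  exact ⟨E i v, by rw [← hcomm i j hij, hv, map_sub, hw, sub_zero]⟩

/-- Appending a Koszul regular tail. -/
theorem ex_append {f g : List R} (hf : Ex f) (h : Ex (g.map (Ideal.Quotient.mk (Ideal.ofList f)))) :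
    Ex (g ++ f) :=
  (ex_iff _).2 (RegSeq.isKoszulRegularSeq_append ((ex_iff _).1 hf) ((ex_iff _).1 h))

end Groth.Agent.KRIdeal
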