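import Groth.Agent.KRIdeal.Seq
import Groth.Agent.RegSeq.Basic
import Mathlib.RingTheory.Localization.Away.Basic
import Mathlib.RingTheory.Flat.Stability
import Mathlib.RingTheory.Derivation.Basic
import Mathlib.LinearAlgebra.Matrix.Rank

/-!
# Koszul regular ideals: local data, localisation, surjections, cancellation of one equation
-/

set_option autoImplicit false
set_option linter.style.haveILetI false

universe u

namespace Groth.Agent.KRIdeal

open KoszulLib

variable {R : Type u} [CommRing R]

theorem ofList_ofFn {n : ℕ} (f : Fin n → R) : Ideal.ofList (List.ofFn f) = Ideal.span (Set.range f) :=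
  congrArg Ideal.span (Set.ext fun _ => List.mem_ofFn)

theorem ex_ofFn_get (l : List R) : Ex (List.ofFn l.get) ↔ Ex l := by rw [List.ofFn_get]

theorem h1_cast {c d : ℕ} (h : c = d) (g : Fin d → R) :
    CAlgX.IsH1Regular (g ∘ Fin.cast h) ↔ CAlgX.IsH1Regular g := by
  subst h; rfl

theorem coeff_mem_of_ex {r : ℕ} {f : Fin r → R} (hf : Ex (List.ofFn f)) {a : Fin r → R}
    (h : ∑ i, a i * f i = 0) (i : Fin r) : a i ∈ Ideal.span (Set.range f) := by
  have h1 : CAlgX.IsH1Regular f := by
    have h2 := RegSeq.isH1Regular_of_isKoszulRegularSeq ((ex_iff _).1 hf)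
    have e : (List.ofFn f).get = f ∘ Fin.cast List.length_ofFn := funext fun j => by
      simp [Fin.cast]
    rw [e] at h2
    exact (h1_cast _ f).1 h2
  have h4 := h1 a h
  clear h
  induction h4 using Submodule.span_induction with
  | mem v hv =>
    obtain ⟨j, k, rfl⟩ := hv
    have hm : ∀ x, f x ∈ Ideal.span (Set.range f) := fun x => Ideal.subset_span ⟨x, rfl⟩
    refine Ideal.sub_mem _ ?_ ?_
    · by_cases he : i = j <;> simp [he, Pi.single_apply, hm]
    · by_cases he : i = k <;> simp [he, Pi.single_apply, hm]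
  | zero => exact zero_mem _
  | add x y _ _ hx hy => exact add_mem hx hy
  | smul c x _ hx => exact Ideal.mul_mem_left _ c hx

theorem exists_matrix_of_le {r n : ℕ} {f : Fin r → R} {h : Fin n → R}
    (e : Ideal.span (Set.range h) ≤ Ideal.span (Set.range f)) :
    ∃ C : Matrix (Fin n) (Fin r) R, ∀ i, h i = ∑ j, C i j * f j := by
  choose C hC using fun i => Ideal.mem_span_range_iff_exists_fun.1 (e (Ideal.subset_span ⟨i, rfl⟩))
  exact ⟨C, fun i => (hC i).symm⟩

theorem mul_sub_one_mem {r n : ℕ} {f : Fin r → R} {h : Fin n → R} (hf : Ex (List.ofFn f))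
    {C : Matrix (Fin n) (Fin r) R} {D : Matrix (Fin r) (Fin n) R}
    (hC : ∀ i, h i = ∑ j, C i j * f j) (hD : ∀ i, f i = ∑ j, D i j * h j) (i j : Fin r) :
    (D * C) i j - (1 : Matrix (Fin r) (Fin r) R) i j ∈ Ideal.span (Set.range f) := by
  refine coeff_mem_of_ex hf (a := fun j => (D * C) i j - (1 : Matrix (Fin r) (Fin r) R) i j) ?_ j
  simp only [sub_mul, Finset.sum_sub_distrib, Matrix.mul_apply, Finset.sum_mul, Matrix.one_apply,
    ite_mul, one_mul, zero_mul, Finset.sum_ite_eq, Finset.mem_univ, if_true]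
  rw [Finset.sum_comm, sub_eq_zero]
  conv_rhs => rw [hD i]
  refine Finset.sum_congr rfl fun k _ => ?_
  rw [hC k, Finset.mul_sum]
  exact Finset.sum_congr rfl fun _ _ => mul_assoc _ _ _

theorem card_le_of_span {r n : ℕ} {f : Fin r → R} {h : Fin n → R} (hf : Ex (List.ofFn f))
    (hI : Ideal.span (Set.range f) ≠ ⊤) (e : Ideal.span (Set.range h) = Ideal.span (Set.range f)) :
    r ≤ n := by
  obtain ⟨C, hC⟩ := exists_matrix_of_le e.le
  obtain ⟨D, hD⟩ := exists_matrix_of_le e.ge
  obtain ⟨m, hm, hIm⟩ := Ideal.exists_le_maximal _ hI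
  let π := Ideal.Quotient.mk m
  letI : Field (R ⧸ m) := Ideal.Quotient.field m
  have h1 : (D.map π) * (C.map π) = (1 : Matrix (Fin r) (Fin r) (R ⧸ m)) := by
    rw [← Matrix.map_mul, ← Matrix.map_one π (map_zero π) (map_one π)]
    ext i j
    exact (Ideal.Quotient.eq).2 (hIm (mul_sub_one_mem hf hC hD i j))
  have h2 := Matrix.rank_mul_le_left (D.map π) (C.map π)
  rw [h1, Matrix.rank_one, Fintype.card_fin] at h2
  exact h2.trans ((Matrix.rank_le_card_width _).trans (by simp))

theorem ex_of_span_eq {r : ℕ} {f h : Fin r → R} (hf : Ex (List.ofFn f))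
    (e : Ideal.span (Set.range h) = Ideal.span (Set.range f)) : Ex (List.ofFn h) := by
  obtain ⟨C, hC⟩ := exists_matrix_of_le e.le
  obtain ⟨D, hD⟩ := exists_matrix_of_le e.ge
  refine ex_of_forall_maximal fun m hm => ?_
  let φ := algebraMap R (Localization.AtPrime m)
  rw [List.map_ofFn]
  by_cases hIm : Ideal.span (Set.range f) ≤ m
  · have hu : IsUnit (C.map φ).det := by
      have h1 : φ.mapMatrix C = C.map φ := rfl
      rw [← h1, ← RingHom.map_det]
      refine IsLocalization.map_units (Localization.AtPrime m) (⟨C.det, fun hc => ?_⟩ : m.primeCompl)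
      letI : Field (R ⧸ m) := Ideal.Quotient.field m
      let π := Ideal.Quotient.mk m
      have h2 : (D.map π) * (C.map π) = (1 : Matrix (Fin r) (Fin r) (R ⧸ m)) := by
        rw [← Matrix.map_mul, ← Matrix.map_one π (map_zero π) (map_one π)]
        ext i j
        exact (Ideal.Quotient.eq).2 (hIm (mul_sub_one_mem hf hC hD i j))
      have h3 := congrArg Matrix.det h2
      rw [Matrix.det_mul, Matrix.det_one, show (C.map π).det = π C.det from (π.map_det C).symm,
        Ideal.Quotient.eq_zero_iff_mem.2 hc, mul_zero] at h3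
      exact zero_ne_one h3
    refine ex_of_matrix (φ ∘ f) (φ ∘ h) (C.map φ) hu (fun i => ?_) ?_
    · simp [hC i, map_sum]
    · have := Ex.baseChange (S := Localization.AtPrime m) hf
      rwa [List.map_ofFn] at this
  · obtain ⟨x, hx, hxm⟩ := SetLike.not_le_iff_exists.1 hIm
    refine ex_of_ofList_eq_top (Ideal.eq_top_of_isUnit_mem _ ?_
      (IsLocalization.map_units (Localization.AtPrime m) (⟨x, hxm⟩ : m.primeCompl)))
    rw [ofList_ofFn, Set.range_comp, ← Ideal.map_span, e]
    exact Ideal.mem_map_of_mem _ hx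

theorem ex_perm {r : ℕ} {f : Fin r → R} (σ : Equiv.Perm (Fin r)) (hf : Ex (List.ofFn f)) :
    Ex (List.ofFn (f ∘ σ)) :=
  ex_of_span_eq hf (by rw [Set.range_comp, σ.surjective.range_eq, Set.image_univ])

/-- `g`, `f` are local equations for `I`. -/
structure Data (I : Ideal R) (g : R) {r : ℕ} (f : Fin r → R) : Prop where
  mem : ∀ i, f i ∈ I
  ex : Ex ((List.ofFn f).map (algebraMap R (Localization.Away g)))
  map_eq : I.map (algebraMap R (Localization.Away g)) =
    (Ideal.span (Set.range f)).map (algebraMap R (Localization.Away g))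

/-- `I` is Koszul regular near `p`. -/
def At (I p : Ideal R) : Prop :=
  ∃ g ∉ p, ∃ (r : ℕ) (f : Fin r → R), Data I g f

theorem transfer (M : Submonoid R) (L : Type u) [CommRing L] [Algebra R L] [IsLocalization M L]
    (L' : Type u) [CommRing L'] [Algebra R L'] [Module.Flat R L']
    (hM : ∀ m : M, IsUnit (algebraMap R L' m)) {l : List R} (h : Ex (l.map (algebraMap R L))) :
    Ex (l.map (algebraMap R L')) := by
  letI : Algebra L L' := (IsLocalization.lift hM).toAlgebra
  haveI : IsScalarTower R L L' := IsScalarTower.of_algebraMap_eq fun x => (IsLocalization.lift_eq hM x).symm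
  haveI : Module.Flat L L' := (Module.flat_iff_of_isLocalization L M L').2 inferInstance
  have h1 := Ex.baseChange (S := L') h
  rw [List.map_map] at h1
  rwa [show (algebraMap L L' : L → L') ∘ algebraMap R L = algebraMap R L' from
    funext fun x => (IsScalarTower.algebraMap_apply R L L' x).symm] at h1

theorem isUnit_powers {S : Type u} [CommRing S] (φ : R →+* S) {g : R} (hg : IsUnit (φ g))
    (m : Submonoid.powers g) : IsUnit (φ m) := by
  obtain ⟨_, k, rfl⟩ := m
  rw [map_pow]
  exact hg.pow k

theorem Data.transfer {I : Ideal R} {g : R} {r : ℕ} {f : Fin r → R} (h : Data I g f)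
    (L' : Type u) [CommRing L'] [Algebra R L'] [Module.Flat R L'] (hg : IsUnit (algebraMap R L' g)) :
    Ex (List.ofFn (algebraMap R L' ∘ f)) ∧ I.map (algebraMap R L') = Ideal.span (Set.range (algebraMap R L' ∘ f)) := by
  refine ⟨?_, ?_⟩
  · have := KRIdeal.transfer (Submonoid.powers g) (Localization.Away g) L' (isUnit_powers _ hg) h.ex
    rwa [List.map_ofFn] at this
  · let ψ : Localization.Away g →+* L' := IsLocalization.lift (M := Submonoid.powers g) (isUnit_powers _ hg)
    have hψ : ψ.comp (algebraMap R (Localization.Away g)) = algebraMap R L' := IsLocalization.lift_comp _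
    rw [Set.range_comp, ← Ideal.map_span, ← hψ, ← Ideal.map_map, ← Ideal.map_map, h.map_eq]

theorem Data.of_dvd {I : Ideal R} {g G : R} {r : ℕ} {f : Fin r → R} (h : Data I g f) (hd : g ∣ G) :
    Data I G f := by
  have hu : IsUnit (algebraMap R (Localization.Away G) g) :=
    isUnit_of_dvd_unit (map_dvd _ hd) (IsLocalization.Away.algebraMap_isUnit G)
  obtain ⟨h1, h2⟩ := h.transfer (Localization.Away G) hu
  refine ⟨h.mem, by rwa [List.map_ofFn], h2.trans ?_⟩
  rw [Ideal.map_span, Set.range_comp]

/-- Local equations may be taken in any localisation. -/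
theorem at_of_away {I p : Ideal R} [p.IsPrime] {g : R} (hg : g ∉ p) (L : Type u) [CommRing L] [Algebra R L]
    [IsLocalization.Away g L] {r : ℕ} (l : Fin r → L) (hl : Ex (List.ofFn l))
    (hI : I.map (algebraMap R L) = Ideal.span (Set.range l)) : At I p := by
  have hmem : ∀ i, ∃ (f : R) (v : Lˣ), f ∈ I ∧ algebraMap R L f = v * l i := by
    intro i
    obtain ⟨k, a, ha⟩ := IsLocalization.Away.surj g (l i)
    have hin : algebraMap R L a ∈ I.map (algebraMap R L) := by
      rw [← ha, hI]
      exact Ideal.mul_mem_right _ _ (Ideal.subset_span ⟨i, rfl⟩)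
    obtain ⟨⟨_, j, rfl⟩, hj⟩ := (IsLocalization.algebraMap_mem_map_algebraMap_iff (Submonoid.powers g) L I a).1 hin |>
      fun ⟨m, hm, h⟩ => (⟨⟨m, hm⟩, h⟩ : ∃ m : Submonoid.powers g, (m : R) * a ∈ I)
    have hu : IsUnit (algebraMap R L (g ^ j) * algebraMap R L g ^ k) := by
      rw [map_pow]
      exact ((IsLocalization.Away.algebraMap_isUnit g).pow j).mul ((IsLocalization.Away.algebraMap_isUnit g).pow k)
    refine ⟨g ^ j * a, hu.unit, hj, ?_⟩
    rw [map_mul, ← ha, hu.unit_spec]
    ring
  choose f v hf hv using hmem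
  have hex : Ex (List.ofFn (algebraMap R L ∘ f)) := by
    refine ex_of_matrix l _ (Matrix.diagonal fun i => (v i : L)) ?_ (fun i => ?_) hl
    · rw [Matrix.det_diagonal]
      exact IsUnit.prod_univ_iff.2 fun i => (v i).isUnit
    · simp [hv, Matrix.diagonal_apply]
  have hspan : Ideal.span (Set.range l) = (Ideal.span (Set.range f)).map (algebraMap R L) := by
    rw [Ideal.map_span, ← Set.range_comp]
    refine le_antisymm (Ideal.span_le.2 ?_) (Ideal.span_le.2 ?_) <;> rintro _ ⟨i, rfl⟩
    · have h2 : l i = ↑(v i)⁻¹ * algebraMap R L (f i) := by rw [hv, Units.inv_mul_cancel_left]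
      rw [h2]
      exact Ideal.mul_mem_left _ _ (Ideal.subset_span ⟨i, rfl⟩)
    · show algebraMap R L (f i) ∈ _
      rw [hv]
      exact Ideal.mul_mem_left _ _ (Ideal.subset_span ⟨i, rfl⟩)
  refine ⟨g, hg, r, f, hf, ?_, ?_⟩
  · exact KRIdeal.transfer (Submonoid.powers g) L (Localization.Away g)
      (isUnit_powers _ (IsLocalization.Away.algebraMap_isUnit g)) (by rwa [List.map_ofFn])
  · let e := IsLocalization.algEquiv (Submonoid.powers g) L (Localization.Away g)
    have he : e.toRingEquiv.toRingHom.comp (algebraMap R L) = algebraMap R (Localization.Away g) :=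
      RingHom.ext fun x => e.commutes x
    rw [← he, ← Ideal.map_map, ← Ideal.map_map, hI, hspan]

theorem isKRI_iff (I : Ideal R) :
    LCI.IsKoszulRegularIdeal I ↔ ∀ (p : Ideal R) [p.IsPrime], I ≤ p → At I p := by
  constructor
  · intro h p hp hIp
    obtain ⟨g, hg, l, hl, hI⟩ := h ⟨p, hp⟩ hIp
    refine at_of_away hg (Localization.Away g) l.get ((ex_ofFn_get l).2 ((ex_iff l).2 hl)) ?_
    rw [hI, show {x | x ∈ l} = Set.range l.get from (Set.range_list_get l).symm]
  · intro h 𝔭 hp
    obtain ⟨g, hg, r, f, hd⟩ := h 𝔭.asIdeal hp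
    refine ⟨g, hg, List.ofFn (algebraMap R (Localization.Away g) ∘ f),
      (ex_iff _).1 (by rw [← List.map_ofFn]; exact hd.ex), ?_⟩
    rw [hd.map_eq, Ideal.map_span, ← Set.range_comp]
    exact (ofList_ofFn _).symm

/-- Koszul regular ideals extend along flat maps. -/
theorem at_map {S : Type u} [CommRing S] [Algebra R S] [Module.Flat R S] {I : Ideal R} (q : Ideal S) [q.IsPrime]
    (h : At I (q.comap (algebraMap R S))) : At (I.map (algebraMap R S)) q := by
  obtain ⟨g, hg, r, f, hd⟩ := h
  let L' := Localization.Away (algebraMap R S g)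
  haveI : Module.Flat R L' := Module.Flat.trans R S L'
  obtain ⟨h1, h2⟩ := hd.transfer L' (by
    rw [IsScalarTower.algebraMap_apply R S L']
    exact IsLocalization.Away.algebraMap_isUnit _)
  refine at_of_away (g := algebraMap R S g) hg L' _ h1 ?_
  rw [← h2, Ideal.map_map, ← IsScalarTower.algebraMap_eq R S L']

theorem isKRI_map {S : Type u} [CommRing S] [Algebra R S] [Module.Flat R S] {I : Ideal R}
    (h : LCI.IsKoszulRegularIdeal I) : LCI.IsKoszulRegularIdeal (I.map (algebraMap R S)) :=
  (isKRI_iff _).2 fun q hq hIq => at_map q ((isKRI_iff I).1 h _ (Ideal.map_le_iff_le_comap.1 hIq))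

/-- Koszul regularity at a prime can be checked after inverting an element outside it. -/
theorem at_of_at_away {I : Ideal R} (p : Ideal R) [hp : p.IsPrime] {β : R} (hβ : β ∉ p) (L : Type u) [CommRing L]
    [Algebra R L] [IsLocalization.Away β L] (hL : At (I.map (algebraMap R L)) (p.map (algebraMap R L))) : At I p := by
  let q : Ideal L := p.map (algebraMap R L)
  have hdisj : Disjoint (Submonoid.powers β : Set R) (p : Set R) :=
    Set.disjoint_left.2 fun x hx hxp => by
      obtain ⟨k, rfl⟩ := hx
      exact hβ (hp.mem_of_pow_mem k hxp)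
  haveI hq : q.IsPrime := IsLocalization.isPrime_of_isPrime_disjoint (Submonoid.powers β) L p hp hdisj
  have hcq : q.comap (algebraMap R L) = p :=
    IsLocalization.under_map_of_isPrime_disjoint (Submonoid.powers β) L hp hdisj
  obtain ⟨γ, hγ, r, f, hd⟩ := hL
  obtain ⟨k, a, ha⟩ := IsLocalization.Away.surj β γ
  have hua : algebraMap R L β ^ k ∉ q := fun hc => hβ (hcq.le (Ideal.mem_comap.2 (hq.mem_of_pow_mem k hc)))
  have haq : algebraMap R L a ∉ q := fun hc => by
    rw [← ha] at hc
    rcases hq.mem_or_mem hc with h1 | h1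
    · exact hγ h1
    · exact hua h1
  have hd' : Data (I.map (algebraMap R L)) (algebraMap R L a) f := hd.of_dvd ⟨_, ha.symm⟩
  let L' := Localization.Away (algebraMap R L a)
  haveI : IsLocalization.Away (β * a) L' := by rw [mul_comm]; exact IsLocalization.Away.mul L L' β a
  refine at_of_away (g := β * a) (fun hc => ?_) L' (algebraMap L L' ∘ f) ?_ ?_
  · rcases hp.mem_or_mem hc with h1 | h1
    · exact hβ h1
    · exact haq (Ideal.mem_map_of_mem _ h1)
  · have := hd'.ex
    rwa [List.map_ofFn] at this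
  · rw [IsScalarTower.algebraMap_eq R L L', ← Ideal.map_map, hd'.map_eq, Ideal.map_span, ← Set.range_comp]

/-- Local nature. -/
theorem isKRI_of_local {I : Ideal R}
    (h : ∀ (p : Ideal R) [p.IsPrime], I ≤ p → ∃ β ∉ p, ∃ (L : Type u) (_ : CommRing L) (_ : Algebra R L)
      (_ : IsLocalization.Away β L), LCI.IsKoszulRegularIdeal (I.map (algebraMap R L))) :
    LCI.IsKoszulRegularIdeal I := by
  refine (isKRI_iff I).2 fun p hp hIp => ?_
  obtain ⟨β, hβ, L, _, _, _, hL⟩ := h p hIp
  have hdisj : Disjoint (Submonoid.powers β : Set R) (p : Set R) :=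
    Set.disjoint_left.2 fun x hx hxp => by
      obtain ⟨k, rfl⟩ := hx
      exact hβ (hp.mem_of_pow_mem k hxp)
  haveI hq : (p.map (algebraMap R L)).IsPrime :=
    IsLocalization.isPrime_of_isPrime_disjoint (Submonoid.powers β) L p hp hdisj
  exact at_of_at_away p hβ L ((isKRI_iff _).1 hL _ (Ideal.map_mono hIp))

section Surjective

variable {R₁ : Type u} [CommRing R₁] (ψ : R →+* R₁) (hψ : Function.Surjective ψ)

/-- The map induced on localisations at one element. -/
noncomputable abbrev awayMap (G : R) : Localization.Away G →+* Localization.Away (ψ G) :=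
  IsLocalization.Away.map (Localization.Away G) (Localization.Away (ψ G)) ψ G

theorem awayMap_algebraMap (G x : R) :
    awayMap ψ G (algebraMap R (Localization.Away G) x) = algebraMap R₁ (Localization.Away (ψ G)) (ψ x) :=
  IsLocalization.map_eq _ x

include hψ in
theorem awayMap_surjective (G : R) : Function.Surjective (awayMap ψ G) := by
  intro y
  obtain ⟨k, a, ha⟩ := IsLocalization.Away.surj (ψ G) y
  obtain ⟨a, rfl⟩ := hψ a
  refine ⟨IsLocalization.mk' _ a (⟨G ^ k, ⟨k, rfl⟩⟩ : ↥(Submonoid.powers G)), ?_⟩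
  refine ((IsLocalization.Away.algebraMap_isUnit (S := Localization.Away (ψ G)) (ψ G)).pow k).mul_right_cancel ?_
  rw [ha, ← map_pow, ← map_pow, ← awayMap_algebraMap ψ G (G ^ k), ← map_mul,
    IsLocalization.mk'_spec (Localization.Away G) a (⟨G ^ k, ⟨k, rfl⟩⟩ : ↥(Submonoid.powers G)), awayMap_algebraMap]

theorem ker_awayMap (G : R) :
    RingHom.ker (awayMap ψ G) = (RingHom.ker ψ).map (algebraMap R (Localization.Away G)) := by
  refine le_antisymm (fun x hx => ?_) (Ideal.map_le_iff_le_comap.2 fun x hx => ?_)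
  · obtain ⟨k, a, ha⟩ := IsLocalization.Away.surj G x
    have h0 : algebraMap R₁ (Localization.Away (ψ G)) (ψ a) = algebraMap R₁ _ 0 := by
      rw [← awayMap_algebraMap, ← ha, map_mul, RingHom.mem_ker.1 hx, zero_mul, map_zero]
    obtain ⟨⟨_, j, rfl⟩, hj⟩ := (IsLocalization.eq_iff_exists (Submonoid.powers (ψ G)) _).1 h0
    change ψ G ^ j * ψ a = ψ G ^ j * 0 at hj
    have hu : IsUnit (algebraMap R (Localization.Away G) G ^ j * algebraMap R (Localization.Away G) G ^ k) :=
      ((IsLocalization.Away.algebraMap_isUnit G).pow j).mul ((IsLocalization.Away.algebraMap_isUnit G).pow k)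
    have hmem : algebraMap R (Localization.Away G) (G ^ j * a) ∈ (RingHom.ker ψ).map (algebraMap R _) :=
      Ideal.mem_map_of_mem _ (by rw [RingHom.mem_ker, map_mul, map_pow, hj, mul_zero])
    rw [map_mul, map_pow, ← ha, mul_comm x, ← mul_assoc] at hmem
    exact (Ideal.unit_mul_mem_iff_mem _ hu).1 hmem
  · rw [Ideal.mem_comap, RingHom.mem_ker, awayMap_algebraMap, RingHom.mem_ker.1 hx, map_zero]

/-- Append or cancel along a surjection with Koszul regular kernel. -/
theorem ex_quot_iff {L L₁ : Type u} [CommRing L] [CommRing L₁] (φ : L →+* L₁) (hφ : Function.Surjective φ)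
    (t g : List L) (ht : Ex t) (hk : RingHom.ker φ = Ideal.ofList t) :
    Ex (g.map φ) ↔ Ex (g ++ t) := by
  let e : L ⧸ Ideal.ofList t ≃+* L₁ :=
    (Ideal.quotEquivOfEq hk.symm).trans (RingHom.quotientKerEquivOfSurjective hφ)
  have hcomp : ∀ x, e (Ideal.Quotient.mk _ x) = φ x := fun x => rfl
  have h1 : g.map φ = (g.map (Ideal.Quotient.mk (Ideal.ofList t))).map e := by
    rw [List.map_map]; rfl
  have h2 : g.map (Ideal.Quotient.mk (Ideal.ofList t)) = (g.map φ).map e.symm := by
    rw [List.map_map]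
    exact List.map_congr_left fun x _ => (e.symm_apply_eq.2 (hcomp x).symm).symm
  constructor
  · intro h
    refine ex_append ht ?_
    rw [h2]
    letI := e.symm.toRingHom.toAlgebra
    haveI : Module.Flat L₁ (L ⧸ Ideal.ofList t) := RingHom.Flat.of_bijective e.symm.bijective
    exact Ex.baseChange h
  · intro h
    rw [h1]
    letI := e.toRingHom.toAlgebra
    haveI : Module.Flat (L ⧸ Ideal.ofList t) L₁ := RingHom.Flat.of_bijective e.bijective
    exact Ex.baseChange (ex_of_append ht h)

include hψ in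
/-- Preimages under surjections with Koszul regular kernel. -/
theorem at_comap (J : Ideal R₁) (p₁ : Ideal R₁) [p₁.IsPrime] (hI : At (RingHom.ker ψ) (p₁.comap ψ))
    (hJ : At J p₁) : At (J.comap ψ) (p₁.comap ψ) := by
  classical
  obtain ⟨g, hg, r, f, hd⟩ := hI
  obtain ⟨g₂, hg₂, n, h, he⟩ := hJ
  obtain ⟨g', rfl⟩ := hψ g₂
  choose h' hh' using fun i => hψ (h i)
  let G := g * g'
  have hG : G ∉ p₁.comap ψ := fun hc =>
    (Ideal.IsPrime.mem_or_mem (I := p₁.comap ψ) inferInstance hc).elim hg hg₂
  have hd' : Data (RingHom.ker ψ) G f := hd.of_dvd (dvd_mul_right g g')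
  have he' : Data J (ψ G) h := he.of_dvd (by rw [map_mul]; exact dvd_mul_left _ _)
  let α := algebraMap R (Localization.Away G)
  let φ := awayMap ψ G
  have hexf : Ex (List.ofFn (α ∘ f)) := by rw [← List.map_ofFn]; exact hd'.ex
  have hker : RingHom.ker φ = Ideal.ofList (List.ofFn (α ∘ f)) := by
    rw [ker_awayMap, hd'.map_eq, Ideal.map_span, ← Set.range_comp, ofList_ofFn]
  have hmap : (List.ofFn (α ∘ h')).map φ = (List.ofFn h).map (algebraMap R₁ (Localization.Away (ψ G))) := by
    rw [List.map_ofFn, List.map_ofFn]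
    congr 1
    funext i
    show φ (α (h' i)) = _
    rw [awayMap_algebraMap, hh']; rfl
  have hex : Ex (List.ofFn (Fin.append (α ∘ h') (α ∘ f))) := by
    rw [List.ofFn_fin_append]
    refine (ex_quot_iff φ (awayMap_surjective ψ hψ G) _ _ hexf hker).1 ?_
    rw [hmap]; exact he'.ex
  refine at_of_away hG (Localization.Away G) _ hex (le_antisymm ?_ ?_)
  · refine Ideal.map_le_iff_le_comap.2 fun x hx => ?_
    have h1 : φ (α x) ∈ (Ideal.span (Set.range (α ∘ h'))).map φ := by
      have hfun : φ ∘ (α ∘ h') = algebraMap R₁ (Localization.Away (ψ G)) ∘ h := funext fun i => by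
        show φ (α (h' i)) = _
        rw [awayMap_algebraMap, hh']; rfl
      have := he'.map_eq
      rw [Ideal.map_span, ← Set.range_comp] at this
      rw [awayMap_algebraMap, Ideal.map_span, ← Set.range_comp, hfun, ← this]
      exact Ideal.mem_map_of_mem _ hx
    rw [Ideal.mem_comap]
    obtain ⟨y, hy, hyx⟩ := (Ideal.mem_map_iff_of_surjective φ (awayMap_surjective ψ hψ G)).1 h1
    have h2 : α x - y ∈ RingHom.ker φ := by rw [RingHom.mem_ker, map_sub, hyx, sub_self]
    rw [hker, ofList_ofFn] at h2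
    rw [← sub_add_cancel (α x) y]
    refine add_mem (Ideal.span_mono ?_ h2) (Ideal.span_mono ?_ hy)
    · rintro _ ⟨i, rfl⟩; exact ⟨Fin.natAdd n i, Fin.append_right _ _ i⟩
    · rintro _ ⟨i, rfl⟩; exact ⟨Fin.castAdd r i, Fin.append_left _ _ i⟩
  · rw [Ideal.span_le]
    rintro _ ⟨i, rfl⟩
    induction i using Fin.addCases with
    | left i =>
      rw [Fin.append_left]
      exact Ideal.mem_map_of_mem _ (by rw [Ideal.mem_comap, hh']; exact he.mem i)
    | right i =>
      rw [Fin.append_right]
      exact Ideal.mem_map_of_mem _ (by rw [Ideal.mem_comap, RingHom.mem_ker.1 (hd.mem i)]; exact zero_mem _)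

include hψ in
theorem isKRI_comap (J : Ideal R₁) (hI : LCI.IsKoszulRegularIdeal (RingHom.ker ψ))
    (hJ : LCI.IsKoszulRegularIdeal J) : LCI.IsKoszulRegularIdeal (J.comap ψ) := by
  refine (isKRI_iff _).2 fun P hP hle => ?_
  have hker : RingHom.ker ψ ≤ P := le_trans (fun x hx => by
    rw [Ideal.mem_comap, RingHom.mem_ker.1 hx]; exact zero_mem _) hle
  haveI : (P.map ψ).IsPrime := Ideal.map_isPrime_of_surjective hψ hker
  have hcm : (P.map ψ).comap ψ = P := by
    rw [Ideal.comap_map_of_surjective' ψ hψ, sup_eq_left]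
    exact hker
  have hJle : J ≤ P.map ψ := by
    rw [← Ideal.map_comap_of_surjective ψ hψ J]
    exact Ideal.map_mono hle
  have := at_comap ψ hψ J (P.map ψ) (by rw [hcm]; exact (isKRI_iff _).1 hI P hker)
    ((isKRI_iff _).1 hJ _ hJle)
  rwa [hcm] at this

include hψ in
/-- Cancelling an equation with invertible derivative. -/
theorem at_map_of_derivation {A : Type u} [CommRing A] [Algebra A R] (D : Derivation A R R) (s : R) (hs : Ex [s])
    (hker : RingHom.ker ψ = Ideal.span {s}) (K : Ideal R) (hsK : s ∈ K) (P : Ideal R) [hP : P.IsPrime]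
    (hKP : K ≤ P) (hDs : D s ∉ P) (hK : At K P) : At (K.map ψ) (P.map ψ) := by
  classical
  obtain ⟨g, hg, r, f, hd⟩ := hK
  have h1 : algebraMap R (Localization.Away g) s ∈
      (Ideal.span (Set.range f)).map (algebraMap R (Localization.Away g)) :=
    hd.map_eq ▸ Ideal.mem_map_of_mem _ hsK
  obtain ⟨_, ⟨k, rfl⟩, hk⟩ :=
    (IsLocalization.algebraMap_mem_map_algebraMap_iff (Submonoid.powers g) _ _ _).1 h1
  obtain ⟨c, hc⟩ := Ideal.mem_span_range_iff_exists_fun.1 hk
  obtain ⟨j, hj⟩ : ∃ j, c j ∉ P := by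
    by_contra hcon
    push Not at hcon
    have h2 := congrArg D hc
    rw [map_sum, Derivation.leibniz] at h2
    simp only [Derivation.leibniz, smul_eq_mul] at h2
    have h3 : g ^ k * D s ∈ P := by
      have h4 : g ^ k * D s = (∑ i, (c i * D (f i) + f i * D (c i))) - s * D (g ^ k) := by
        rw [h2]; ring
      rw [h4]
      exact sub_mem (Ideal.sum_mem _ fun i _ => add_mem (Ideal.mul_mem_right _ _ (hcon i))
        (Ideal.mul_mem_right _ _ (hKP (hd.mem i)))) (Ideal.mul_mem_right _ _ (hKP hsK))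
    exact (hP.mem_or_mem h3).elim (fun h => hg (hP.mem_of_pow_mem _ h)) hDs
  obtain ⟨n, rfl⟩ : ∃ n, r = n + 1 := ⟨r - 1, by have := j.isLt; omega⟩
  let G := g * c j
  have hG : G ∉ P := fun hc => (hP.mem_or_mem hc).elim hg hj
  have hd' := hd.of_dvd (G := G) (dvd_mul_right g (c j))
  let α := algebraMap R (Localization.Away G)
  have hexf : Ex (List.ofFn (α ∘ f)) := by rw [← List.map_ofFn]; exact hd'.ex
  have hgu : IsUnit (α g) := isUnit_of_dvd_unit (map_dvd α (dvd_mul_right g (c j))) (IsLocalization.Away.algebraMap_isUnit G)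
  have hcu : IsUnit (α (c j)) := isUnit_of_dvd_unit (map_dvd α (dvd_mul_left (c j) g)) (IsLocalization.Away.algebraMap_isUnit G)
  let v : Fin (n + 1) → Localization.Away G := fun i => ↑(hgu.pow k).unit⁻¹ * α (c i)
  let C : Matrix (Fin (n + 1)) (Fin (n + 1)) (Localization.Away G) := (1 : Matrix _ _ _).updateRow j v
  have hC : IsUnit C.det := by
    have h5 := Matrix.det_updateRow_sum (1 : Matrix (Fin (n + 1)) (Fin (n + 1)) (Localization.Away G)) j v
    have h6 : (∑ k, v k • (1 : Matrix (Fin (n + 1)) (Fin (n + 1)) (Localization.Away G)) k) = v := by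
      funext i; simp [Matrix.one_apply]
    rw [h6, Matrix.det_one, smul_eq_mul, mul_one] at h5
    show IsUnit ((1 : Matrix _ _ _).updateRow j v).det
    rw [h5]
    exact (Units.isUnit _).mul hcu
  let u : Fin (n + 1) → Localization.Away G := Function.update (α ∘ f) j (α s)
  have hu : Ex (List.ofFn u) := by
    refine ex_of_matrix (α ∘ f) u C hC (fun i => ?_) hexf
    by_cases hij : i = j
    · subst hij
      simp only [u, Function.update_self, C, Matrix.updateRow_self, v, mul_assoc, ← Finset.mul_sum]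
      have h7 : ∑ x, α (c x) * (α ∘ f) x = (hgu.pow k).unit * α s := by
        rw [IsUnit.unit_spec, ← map_pow, ← map_mul, ← hc, map_sum]
        simp
      rw [h7, Units.inv_mul_cancel_left]
    · simp [u, C, hij, Matrix.one_apply]
  let σ : Equiv.Perm (Fin (n + 1)) := (finSuccEquiv' (Fin.last n)).trans (finSuccEquiv' j).symm
  let rest : Fin n → Localization.Away G := fun i => α (f (j.succAbove i))
  have hperm : u ∘ σ = Fin.snoc rest (α s) := by
    funext i
    induction i using Fin.lastCases with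
    | last => simp [σ, u]
    | cast i =>
      simp [σ, u, rest, finSuccEquiv'_below (Fin.castSucc_lt_last i), Fin.succAbove_ne j i]
  have hsn : List.ofFn (Fin.snoc rest (α s) : Fin (n + 1) → Localization.Away G) = List.ofFn rest ++ [α s] := by
    rw [List.ofFn_succ', List.concat_eq_append]
    simp
  have h8 := ex_perm σ hu
  rw [hperm, hsn] at h8
  haveI : Module.Flat R (Localization.Away G) := IsLocalization.flat _ (Submonoid.powers G)
  have hsα : Ex [α s] := Ex.baseChange (S := Localization.Away G) hs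
  let φ := awayMap ψ G
  have hkφ : RingHom.ker φ = Ideal.ofList [α s] := by
    rw [ker_awayMap, hker, Ideal.map_span, Set.image_singleton, Ideal.ofList_singleton]
  have h9 := (ex_quot_iff φ (awayMap_surjective ψ hψ G) _ _ hsα hkφ).2 h8
  rw [List.map_ofFn] at h9
  have hker' : RingHom.ker ψ ≤ P := by
    rw [hker, Ideal.span_singleton_le_iff_mem]
    exact hKP hsK
  haveI : (P.map ψ).IsPrime := Ideal.map_isPrime_of_surjective hψ hker'
  refine at_of_away (g := ψ G) (fun hm => hG ?_) (Localization.Away (ψ G)) (φ ∘ rest) h9 ?_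
  · have : G ∈ (P.map ψ).comap ψ := hm
    rwa [Ideal.comap_map_of_surjective' ψ hψ, sup_eq_left.2 hker'] at this
  have hKG : K.map α = Ideal.span (Set.range u) := by
    rw [hd'.map_eq, Ideal.map_span, ← Set.range_comp]
    refine le_antisymm ?_ (Ideal.span_le.2 ?_)
    · rw [Ideal.span_le]
      rintro _ ⟨i, rfl⟩
      by_cases hij : i = j
      · subst hij
        have h10 : α (g ^ k * s) = ∑ x, α (c x) * α (f x) := by rw [← hc, map_sum]; simp
        rw [← Finset.add_sum_erase _ _ (Finset.mem_univ i)] at h10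
        have h11 : α (c i) * α (f i) ∈ Ideal.span (Set.range u) := by
          rw [show α (c i) * α (f i) = α (g ^ k * s) - ∑ x ∈ Finset.univ.erase i, α (c x) * α (f x) by
            rw [h10]; ring]
          refine sub_mem ?_ (Ideal.sum_mem _ fun x hx => Ideal.mul_mem_left _ _
            (Ideal.subset_span ⟨x, by simp [u, Finset.ne_of_mem_erase hx]⟩))
          rw [map_mul]
          exact Ideal.mul_mem_left _ _ (Ideal.subset_span ⟨i, by simp [u]⟩)
        exact (Ideal.unit_mul_mem_iff_mem _ hcu).1 h11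
      · exact Ideal.subset_span ⟨i, by simp [u, hij, α]⟩
    · rintro _ ⟨i, rfl⟩
      by_cases hij : i = j
      · subst hij
        simp only [u, Function.update_self]
        have h12 : α s ∈ (Ideal.span (Set.range f)).map α := hd'.map_eq ▸ Ideal.mem_map_of_mem _ hsK
        rwa [Ideal.map_span, ← Set.range_comp] at h12
      · simp only [u, Function.update_of_ne hij]
        exact Ideal.subset_span ⟨i, rfl⟩
  rw [Ideal.map_map, show (algebraMap R₁ (Localization.Away (ψ G))).comp ψ = φ.comp α from
    RingHom.ext fun x => (awayMap_algebraMap ψ G x).symm, ← Ideal.map_map, hKG, Ideal.map_span,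
    ← σ.surjective.range_comp u, hperm, ← Set.range_comp]
  refine le_antisymm (Ideal.span_le.2 ?_) (Ideal.span_le.2 ?_)
  · rintro _ ⟨i, rfl⟩
    induction i using Fin.lastCases with
    | last =>
      show φ _ ∈ _
      rw [Fin.snoc_last, awayMap_algebraMap, RingHom.mem_ker.1 (hker.symm ▸ Ideal.mem_span_singleton_self s :), map_zero]
      exact zero_mem _
    | cast i =>
      show φ _ ∈ _
      rw [Fin.snoc_castSucc]
      exact Ideal.subset_span ⟨i, rfl⟩
  · rintro _ ⟨i, rfl⟩
    exact Ideal.subset_span ⟨i.castSucc, by show φ _ = φ _; rw [Fin.snoc_castSucc]⟩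

include hψ in
theorem isKRI_map_of_derivation {A : Type u} [CommRing A] [Algebra A R] (D : Derivation A R R) (s : R)
    (hs : Ex [s]) (hker : RingHom.ker ψ = Ideal.span {s}) (K : Ideal R) (hsK : s ∈ K)
    (hDs : ∀ P : Ideal R, P.IsPrime → K ≤ P → D s ∉ P) (hK : LCI.IsKoszulRegularIdeal K) :
    LCI.IsKoszulRegularIdeal (K.map ψ) := by
  refine (isKRI_iff _).2 fun p hp hle => ?_
  have hKP : K ≤ p.comap ψ := Ideal.map_le_iff_le_comap.1 hle
  have := at_map_of_derivation ψ hψ D s hs hker K hsK (p.comap ψ) hKP (hDs _ inferInstance hKP)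
    ((isKRI_iff K).1 hK _ hKP)
  rwa [Ideal.map_comap_of_surjective ψ hψ] at this

end Surjective

end Groth.Agent.KRIdeal
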